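/-
helper18: involutions of `²F₄(q)`: the abstract group theory (the swap lemma for an involution acting on `Q = A Z B`,
the walk along a word of the Weyl group, two classes, index two).
-/
import Mathlib

set_option autoImplicit false

namespace Cfsg.Agent.Lib.Helper18.Inv2F4

section Swap

variable {G : Type*} [Group G]

/-- The swap lemma: `n` an involution swapping `A` and `B` and centralising `Z`, `Z` normalising `A`, `A Z ∩ B = 1`:
an involution `n a z b` is conjugate to `n z` by the element `(n a n⁻¹)⁻¹` of `Γ`. -/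
theorem swap_conj (Γ A Z B : Subgroup G) (n : G) (hn : n ∈ Γ) (hn2 : n * n = 1)
    (hAB : ∀ a ∈ A, n * a * n⁻¹ ∈ B) (hBA : ∀ b ∈ B, n * b * n⁻¹ ∈ A)
    (hZ : ∀ z ∈ Z, n * z = z * n) (hZA : ∀ z ∈ Z, ∀ a ∈ A, z * a * z⁻¹ ∈ A)
    (hint : ∀ a ∈ A, ∀ z ∈ Z, ∀ b ∈ B, a * z = b → b = 1)
    (a z b : G) (ha : a ∈ A) (haΓ : a ∈ Γ) (hz : z ∈ Z) (hb : b ∈ B)
    (hinv : (n * (a * z * b)) * (n * (a * z * b)) = 1) :
    ∃ g ∈ Γ, g * (n * (a * z * b)) * g⁻¹ = n * z := by
  have hninv : n⁻¹ = n := inv_eq_of_mul_eq_one_left hn2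
  have hwB : n * a * n⁻¹ ∈ B := hAB a ha
  have hwΓ : n * a * n⁻¹ ∈ Γ := Γ.mul_mem (Γ.mul_mem hn haΓ) (Γ.inv_mem hn)
  have hb'B : b * (n * a * n⁻¹) ∈ B := B.mul_mem hb hwB
  generalize hb' : b * (n * a * n⁻¹) = b' at hb'B
  have e1 : (n * a * n⁻¹)⁻¹ * (n * (a * z * b)) * (n * a * n⁻¹)⁻¹⁻¹ = n * z * b' := by
    rw [← hb']; group
  -- the conjugate is an involution
  have hinv' : (n * z * b') * (n * z * b') = 1 := by
    rw [← e1]
    have : (n * a * n⁻¹)⁻¹ * (n * (a * z * b)) * (n * a * n⁻¹)⁻¹⁻¹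
          * ((n * a * n⁻¹)⁻¹ * (n * (a * z * b)) * (n * a * n⁻¹)⁻¹⁻¹)
        = (n * a * n⁻¹)⁻¹ * ((n * (a * z * b)) * (n * (a * z * b))) * (n * a * n⁻¹)⁻¹⁻¹ := by group
    rw [this, hinv]; group
  have ha''A : n⁻¹ * b' * n ∈ A := by
    have h := hBA b' hb'B
    rw [hninv] at h ⊢
    exact h
  have h1 : n * z * n = z := by rw [hZ z hz, mul_assoc, hn2, mul_one]
  have key : (n * z * b') * (n * z * b') = z * (n⁻¹ * b' * n) * z * b' := by
    calc (n * z * b') * (n * z * b') = (n * z * n) * (n⁻¹ * b' * n) * z * b' := by group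
      _ = z * (n⁻¹ * b' * n) * z * b' := by rw [h1]
  rw [key] at hinv'
  have h2 : (z * (n⁻¹ * b' * n) * z⁻¹) * (z * z) = b'⁻¹ := by
    have : (z * (n⁻¹ * b' * n) * z⁻¹) * (z * z) = (z * (n⁻¹ * b' * n) * z * b') * b'⁻¹ := by group
    rw [this, hinv', one_mul]
  have h3 := hint _ (hZA z hz _ ha''A) _ (Z.mul_mem hz hz) _ (B.inv_mem hb'B) h2
  have hb'1 : b' = 1 := by rw [← inv_inv b', h3, inv_one]
  refine ⟨(n * a * n⁻¹)⁻¹, Γ.inv_mem hwΓ, ?_⟩
  rw [e1, hb'1, mul_one]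

end Swap

section Walk

variable {G : Type*} [Group G]

/-- The walk along a word: if the conjugate of `u ∈ U` by the product of a list leaves `U`, some step of the walk does. -/
theorem exists_step_not_mem (Γ U : Subgroup G) (ns : List G) (hns : ∀ n ∈ ns, n ∈ Γ) (u : G) (hu : u ∈ U)
    (hlast : ns.prod * u * ns.prod⁻¹ ∉ U) :
    ∃ g ∈ Γ, ∃ n ∈ ns, g * u * g⁻¹ ∈ U ∧ n * (g * u * g⁻¹) * n⁻¹ ∉ U := by
  induction ns with
  | nil =>
    exfalso
    apply hlast
    simpa using hu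
  | cons n ns ih =>
    by_cases h : ns.prod * u * ns.prod⁻¹ ∈ U
    · refine ⟨ns.prod, Γ.list_prod_mem fun x hx => hns x (List.mem_cons_of_mem _ hx), n, List.mem_cons_self,
        h, ?_⟩
      intro hmem
      apply hlast
      have : (n :: ns).prod * u * (n :: ns).prod⁻¹ = n * (ns.prod * u * ns.prod⁻¹) * n⁻¹ := by
        rw [List.prod_cons]; group
      rw [this]
      exact hmem
    · obtain ⟨g, hg, n', hn', h1, h2⟩ := ih (fun x hx => hns x (List.mem_cons_of_mem _ hx)) h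
      exact ⟨g, hg, n', List.mem_cons_of_mem _ hn', h1, h2⟩

end Walk

section Classes

variable {G : Type*} [Group G]

/-- Two classes of involutions. -/
theorem ncard_involution_classes_eq_two (z t : G) (hz : orderOf z = 2) (ht : orderOf t = 2) (hne : ¬ IsConj z t)
    (hall : ∀ g : G, orderOf g = 2 → IsConj g z ∨ IsConj g t) :
    (ConjClasses.mk '' {g : G | orderOf g = 2}).ncard = 2 := by
  have e : ConjClasses.mk '' {g : G | orderOf g = 2} = {ConjClasses.mk z, ConjClasses.mk t} := by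
    ext c
    constructor
    · rintro ⟨g, hg, rfl⟩
      rcases hall g hg with h | h
      · exact Or.inl (ConjClasses.mk_eq_mk_iff_isConj.mpr h)
      · exact Or.inr (ConjClasses.mk_eq_mk_iff_isConj.mpr h)
    · rintro (rfl | rfl)
      · exact ⟨z, hz, rfl⟩
      · exact ⟨t, ht, rfl⟩
  rw [e]
  apply Set.ncard_pair
  intro h
  exact hne (ConjClasses.mk_eq_mk_iff_isConj.mp h)

/-- Conjugacy in a subgroup of index two, for an element which commutes with an element outside the subgroup. -/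
theorem isConj_subgroup_of_index_two (T : Subgroup G) (hidx : T.index = 2) (x y : T) (c : G) (hc : c ∉ T)
    (hcx : c * (x : G) = (x : G) * c) (hconj : IsConj (x : G) (y : G)) : IsConj x y := by
  obtain ⟨g, hg⟩ := isConj_iff.mp hconj
  by_cases hgT : g ∈ T
  · exact isConj_iff.mpr ⟨⟨g, hgT⟩, Subtype.ext hg⟩
  · have hgc : g * c ∈ T := (Subgroup.mul_mem_iff_of_index_two hidx).mpr ⟨fun h => absurd h hgT, fun h => absurd h hc⟩
    refine isConj_iff.mpr ⟨⟨g * c, hgc⟩, Subtype.ext ?_⟩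
    show g * c * (x : G) * (g * c)⁻¹ = (y : G)
    rw [← hg]
    have : g * c * (x : G) * (g * c)⁻¹ = g * (c * (x : G)) * c⁻¹ * g⁻¹ := by group
    rw [this, hcx]
    group

end Classes

end Cfsg.Agent.Lib.Helper18.Inv2F4
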