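/-
helper18: involutions of `²F₄(q)`: the subgroups of `F₄(K)` generated by the root groups of a list of roots, their
conjugates under the elements `n_w`, the torus and root elements (a Boolean table check for the latter).
-/
import Cfsg.Agent.Lib.Helper18.F4Q
import Cfsg.Agent.S1037

set_option autoImplicit false

namespace Cfsg.Agent.Lib.Helper18.Inv2F4

open Cfsg.Lie Cfsg.Agent.Lib.Helper18 Cfsg.Agent.Lib.Helper18.F4T Cfsg.Agent.Lib.Helper91.ReeF4 Cfsg.Agent.Lib.Helper91.SigAbs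
open Cfsg.Agent.Lib.Helper91.ExcAut Cfsg.Agent.Lib.Helper61.ReeF4

universe u

section RG

variable (K : Type u) [Field K]

/-- The subgroup generated by the root groups of the roots of the list `Ψ`. -/
def RG (Ψ : List ℕ) : Subgroup (GL chevF4.Idx K) :=
  Subgroup.closure {g | ∃ r ∈ Ψ, ∃ t : K, g = xG hD4 r t}

variable {K}

theorem xG_mem_RG {Ψ : List ℕ} {r : ℕ} (hr : r ∈ Ψ) (t : K) : xG hD4 r t ∈ RG K Ψ :=
  Subgroup.subset_closure ⟨r, hr, t, rfl⟩

theorem wordG_mem_RG {Ψ : List ℕ} (w : List (ℕ × K)) (hw : ∀ a ∈ w, a.1 ∈ Ψ) : wordG hD4 w ∈ RG K Ψ := by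
  induction w with
  | nil => rw [wordG_nil]; exact one_mem _
  | cons a w ih =>
    rw [wordG_cons]
    exact mul_mem (xG_mem_RG (hw a List.mem_cons_self) _) (ih fun b hb => hw b (List.mem_cons_of_mem _ hb))

theorem RG_mono {Ψ Ψ' : List ℕ} (h : ∀ r ∈ Ψ, r ∈ Ψ') : RG K Ψ ≤ RG K Ψ' := by
  apply Subgroup.closure_mono
  rintro g ⟨r, hr, t, rfl⟩
  exact ⟨r, h r hr, t, rfl⟩

theorem RG_le_pos {Ψ : List ℕ} (h : ∀ r ∈ Ψ, 24 ≤ r ∧ r < 48) : RG K Ψ ≤ chevF4.posUnipotent K := by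
  unfold RG
  rw [Subgroup.closure_le]
  rintro g ⟨r, hr, t, rfl⟩
  exact xG_mem_posUnipotent hD4 r t ((isPosRoot_iff hD4 r).mpr ⟨(h r hr).2, (h r hr).1⟩)

theorem RG_le_neg {Ψ : List ℕ} (h : ∀ r ∈ Ψ, r < 24) : RG K Ψ ≤ chevF4.negUnipotent K := by
  unfold RG
  rw [Subgroup.closure_le]
  rintro g ⟨r, hr, t, rfl⟩
  have h1 : r < chevF4.nroots := lt_trans (h r hr) (by decide)
  exact xG_mem_negUnipotent' hD4 r t ⟨h1, h r hr⟩

theorem pos_inf_neg_F4 : chevF4.posUnipotent K ⊓ chevF4.negUnipotent K = ⊥ := by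
  have h := (Cfsg.Agent.S1037.result (F := K) chevF4 hD4).1
  rw [eq_bot_iff, ← h]
  exact inf_le_inf_right _ (by unfold ChevalleyDatum.borelSubgroup; exact le_sup_left)

/-- An element of both a positive and a negative `RG` is trivial. -/
theorem eq_one_of_mem_pos_neg {Ψ Ψ' : List ℕ} (h : ∀ r ∈ Ψ, 24 ≤ r ∧ r < 48) (h' : ∀ r ∈ Ψ', r < 24)
    (x : GL chevF4.Idx K) (hx : x ∈ RG K Ψ) (hx' : x ∈ RG K Ψ') : x = 1 := by
  have h1 : x ∈ chevF4.posUnipotent K ⊓ chevF4.negUnipotent K := ⟨RG_le_pos h hx, RG_le_neg h' hx'⟩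
  rw [pos_inf_neg_F4] at h1
  exact Subgroup.mem_bot.mp h1

/-- Conjugation maps `RG Ψ` into `RG Ψ'` if it does so on the generators. -/
theorem conj_RG {Ψ Ψ' : List ℕ} (g : GL chevF4.Idx K)
    (h : ∀ r ∈ Ψ, ∀ t : K, g * xG hD4 r t * g⁻¹ ∈ RG K Ψ') (x : GL chevF4.Idx K) (hx : x ∈ RG K Ψ) :
    g * x * g⁻¹ ∈ RG K Ψ' := by
  unfold RG at hx
  induction hx using Subgroup.closure_induction with
  | mem y hy =>
    obtain ⟨r, hr, t, rfl⟩ := hy
    exact h r hr t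
  | one => simp
  | mul y z _ _ hy hz =>
    have e : g * (y * z) * g⁻¹ = (g * y * g⁻¹) * (g * z * g⁻¹) := by group
    rw [e]
    exact mul_mem hy hz
  | inv y _ hy =>
    have e : g * y⁻¹ * g⁻¹ = (g * y * g⁻¹)⁻¹ := by group
    rw [e]
    exact inv_mem hy

/-- Conjugation by `n_w`. -/
theorem nW_conj_RG (ws : List ℕ) (hws : ∀ i ∈ ws, i < chevF4.rank) (Ψ : List ℕ) (hΨ : ∀ r ∈ Ψ, r < 48)
    (x : GL chevF4.Idx K) (hx : x ∈ RG K Ψ) :
    nW hD4 chevData_F4.{u} ws * x * (nW hD4 chevData_F4.{u} ws)⁻¹ ∈ RG K (Ψ.map (wordRootF f4tabs ws)) := by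
  refine conj_RG _ ?_ x hx
  intro r hr t
  rw [nW_conj_xG hD4 chevData_F4.{u} ws hws r (hΨ r hr) t, f4tabs_eq]
  exact xG_mem_RG (List.mem_map_of_mem hr) _

/-- Conjugation by the torus. -/
theorem tor4_conj_RG (a b c d : Kˣ) (Ψ : List ℕ) (hΨ : ∀ r ∈ Ψ, r < 48)
    (x : GL chevF4.Idx K) (hx : x ∈ RG K Ψ) : tor4 a b c d * x * (tor4 a b c d)⁻¹ ∈ RG K Ψ := by
  refine conj_RG _ ?_ x hx
  intro r hr t
  rw [tor4_conj_xG a b c d r (hΨ r hr) t]
  exact xG_mem_RG hr _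

/-- The table check: the root `s` normalises the set of roots `Ψ`. -/
def normOK (s : ℕ) (Ψ : List ℕ) : Bool :=
  decide (s < 48) && Ψ.all fun r => decide (r < 48) && !(r == s) && !(r == 47 - s) &&
    (fastF4.commTermsF s r).all fun c => Ψ.contains c.1

/-- Conjugation by a root element. -/
theorem xG_conj_RG (s : ℕ) (Ψ : List ℕ) (hok : normOK s Ψ = true) (t : K)
    (x : GL chevF4.Idx K) (hx : x ∈ RG K Ψ) : xG hD4 s t * x * (xG hD4 s t)⁻¹ ∈ RG K Ψ := by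
  unfold normOK at hok
  rw [Bool.and_eq_true, List.all_eq_true] at hok
  obtain ⟨hs, hall⟩ := hok
  have hs : s < 48 := of_decide_eq_true hs
  refine conj_RG _ ?_ x hx
  intro r hr u
  have h1 := hall r hr
  simp only [Bool.and_eq_true, Bool.not_eq_true', beq_eq_false_iff_ne, ne_eq, List.all_eq_true,
    decide_eq_true_eq] at h1
  obtain ⟨⟨⟨hr48, hrs⟩, hrn⟩, hterms⟩ := h1
  have hcomm := chevData_F4.{u}.comm K s r hs hr48 hrs
    (by show r ≠ fastF4.neg s; unfold FastDatum.neg; exact hrn) (-t) u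
  have hw : wordG hD4 (chevF4.commWord K s r (-t) u) ∈ RG K Ψ := by
    apply wordG_mem_RG
    intro a ha
    unfold ChevalleyDatum.commWord at ha
    rw [List.mem_map] at ha
    obtain ⟨c, hc, rfl⟩ := ha
    rw [← chevData_F4.{u}.T.commTermsF_eq chevF4 chevData_F4.{u}.hag chevData_F4.{u}.hin s r hs hr48] at hc
    have := hterms c hc
    simpa using this
  have e : xG hD4 s t * xG hD4 r u * (xG hD4 s t)⁻¹ = xG hD4 r u * wordG hD4 (chevF4.commWord K s r (-t) u) := by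
    rw [xG_inv]
    apply Units.ext
    rw [Units.val_mul, Units.val_mul, Units.val_mul, coe_xG, coe_xG, coe_xG, coe_wordG, mul_assoc, hcomm,
      ← mul_assoc, ← mul_assoc, x_add' hD4, add_neg_cancel, x_zero hD4, one_mul]
  rw [e]
  exact mul_mem (xG_mem_RG hr _) hw

/-- Conjugation by a word. -/
theorem wordG_conj_RG (w : List (ℕ × K)) (Ψ : List ℕ) (hok : ∀ a ∈ w, normOK a.1 Ψ = true)
    (x : GL chevF4.Idx K) (hx : x ∈ RG K Ψ) : wordG hD4 w * x * (wordG hD4 w)⁻¹ ∈ RG K Ψ := by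
  induction w generalizing x with
  | nil => rw [wordG_nil]; simpa using hx
  | cons a w ih =>
    rw [wordG_cons]
    have h1 := ih (fun b hb => hok b (List.mem_cons_of_mem _ hb)) x hx
    have h2 := xG_conj_RG a.1 Ψ (hok a List.mem_cons_self) a.2 _ h1
    have e : xG hD4 a.1 a.2 * wordG hD4 w * x * (xG hD4 a.1 a.2 * wordG hD4 w)⁻¹
        = xG hD4 a.1 a.2 * (wordG hD4 w * x * (wordG hD4 w)⁻¹) * (xG hD4 a.1 a.2)⁻¹ := by group
    rw [e]
    exact h2

end RG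

end Cfsg.Agent.Lib.Helper18.Inv2F4
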