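/-
helper18: involutions of `²F₄(q)`: the class words in the order of the octagon, the normal form of the elements of
`U ∩ ²F₄(q)`, the root lists of the two parabolic decompositions.
-/
import Cfsg.Agent.Lib.Helper18.Inv2F4.RootNorm
import Cfsg.Agent.Lib.Helper18.Inv2F4.Abs

set_option autoImplicit false

namespace Cfsg.Agent.Lib.Helper18.Inv2F4

open Cfsg.Lie Cfsg.Agent.Lib.Helper18 Cfsg.Agent.Lib.Helper18.F4T Cfsg.Agent.Lib.Helper91.ReeF4 Cfsg.Agent.Lib.Helper91.SigAbs
open Cfsg.Agent.Lib.Helper91.ExcAut Cfsg.Agent.Lib.Helper61.ReeF4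

universe u

/-! ### The roots of the sixteen classes, in the order of the octagon -/

def c1 : List ℕ := [33, 24]
def c2 : List ℕ := [34, 26, 36, 42]
def c3 : List ℕ := [38, 43]
def c4 : List ℕ := [29, 41, 44, 47]
def c5 : List ℕ := [39, 45]
def c6 : List ℕ := [35, 31, 40, 46]
def c7 : List ℕ := [37, 32]
def c8 : List ℕ := [27, 25, 28, 30]
def c9 : List ℕ := [14, 23]
def c16 : List ℕ := [20, 22, 19, 17]

/-- The roots of `Q₁` (the classes 2 to 8) and of its three parts. -/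
def ΨQ1 : List ℕ := c2 ++ c3 ++ c4 ++ c5 ++ c6 ++ c7 ++ c8
def ΨA1 : List ℕ := c2 ++ c3 ++ c4
def ΨB1 : List ℕ := c6 ++ c7 ++ c8
/-- The roots of `Q₈` (the classes 1 to 7) and of its three parts. -/
def ΨQ8 : List ℕ := c1 ++ c2 ++ c3 ++ c4 ++ c5 ++ c6 ++ c7
def ΨA8 : List ℕ := c1 ++ c2 ++ c3
def ΨB8 : List ℕ := c5 ++ c6 ++ c7

/-- The positive classes in the order of the octagon. -/
def octBlks : List Blk := [.pair 33 24, .quad 34 26 36 42, .pair 38 43, .quad 29 41 44 47, .pair 39 45,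
  .quad 35 31 40 46, .pair 37 32, .quad 27 25 28 30]

theorem octBlks_perm : octBlks.Perm posBlks := by decide

section Words

variable (K : Type u) [Field K] (m : ℕ)

/-- The pair word `x_r(t^θ) x_r̄(t)`. -/
noncomputable def pW (r rb : ℕ) (t : K) : GL chevF4.Idx K := wordG hD4 (f4PairWord (2 ^ m) r rb t)

/-- The class word `x_a(t^θ) x_b(t) x_{a+b}(t^{θ+1} + υ) x_{2a+b}(υ^{2θ})`. -/
noncomputable def qW (a b ab aab : ℕ) (t υ : K) : GL chevF4.Idx K :=
  wordG hD4 (b2ClassWord (2 ^ m) a b ab aab t υ)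

noncomputable def X1 (t : K) : GL chevF4.Idx K := pW K m 33 24 t
noncomputable def X2 (t υ : K) : GL chevF4.Idx K := qW K m 34 26 36 42 t υ
noncomputable def X3 (t : K) : GL chevF4.Idx K := pW K m 38 43 t
noncomputable def X4 (t υ : K) : GL chevF4.Idx K := qW K m 29 41 44 47 t υ
noncomputable def X5 (t : K) : GL chevF4.Idx K := pW K m 39 45 t
noncomputable def X6 (t υ : K) : GL chevF4.Idx K := qW K m 35 31 40 46 t υ
noncomputable def X7 (t : K) : GL chevF4.Idx K := pW K m 37 32 t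
noncomputable def X8 (t υ : K) : GL chevF4.Idx K := qW K m 27 25 28 30 t υ
/-- The negative of the class 1. -/
noncomputable def Y1 (t : K) : GL chevF4.Idx K := pW K m 14 23 t
/-- The negative of the class 8. -/
noncomputable def Y8 (t υ : K) : GL chevF4.Idx K := qW K m 20 22 19 17 t υ

/-- `n₁ = n_{p₁} n_{p₄}`. -/
noncomputable def n1 : GL chevF4.Idx K := nW hD4 chevData_F4.{u} [0, 3]
/-- `n₈ = (n_{p₂} n_{p₃})²`. -/
noncomputable def n8 : GL chevF4.Idx K := nW hD4 chevData_F4.{u} [1, 2, 1, 2]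

theorem X1_eq (t : K) : X1 K m t = pairW (2 ^ m) t := rfl

theorem X8_eq (t υ : K) : X8 K m t υ = quadW (2 ^ m) t υ := rfl

variable {K}

theorem pW_mem_RG (r rb : ℕ) (t : K) (Ψ : List ℕ) (hr : r ∈ Ψ) (hrb : rb ∈ Ψ) : pW K m r rb t ∈ RG K Ψ := by
  apply wordG_mem_RG
  intro a ha
  simp only [f4PairWord, List.mem_cons, List.not_mem_nil, or_false] at ha
  rcases ha with rfl | rfl
  · exact hr
  · exact hrb

theorem qW_mem_RG (a b ab aab : ℕ) (t υ : K) (Ψ : List ℕ) (ha : a ∈ Ψ) (hb : b ∈ Ψ) (hab : ab ∈ Ψ)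
    (haab : aab ∈ Ψ) : qW K m a b ab aab t υ ∈ RG K Ψ := by
  apply wordG_mem_RG
  intro x hx
  simp only [b2ClassWord, List.mem_cons, List.not_mem_nil, or_false] at hx
  rcases hx with rfl | rfl | rfl | rfl
  · exact ha
  · exact hb
  · exact hab
  · exact haab

theorem pW_mem [CharP K 2] (r rb : ℕ) (hB : Blk.pair r rb ∈ posBlks ++ negBlks) (t : K) :
    pW K m r rb t ∈ twistedF4 K (2 ^ m) :=
  word_mem K (2 ^ m) (pow_ne_zero _ (by norm_num)) (.pair r rb) hB t 0

theorem qW_mem [CharP K 2] (a b ab aab : ℕ) (hB : Blk.quad a b ab aab ∈ posBlks ++ negBlks) (t υ : K) :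
    qW K m a b ab aab t υ ∈ twistedF4 K (2 ^ m) :=
  word_mem K (2 ^ m) (pow_ne_zero _ (by norm_num)) (.quad a b ab aab) hB t υ

theorem pW_zero (r rb : ℕ) : pW K m r rb 0 = 1 := by
  unfold pW f4PairWord
  rw [wordG_cons, wordG_cons, wordG_nil, zero_pow (pow_ne_zero _ (by norm_num)), xG_zero, xG_zero, mul_one,
    mul_one]

theorem qW_zero (a b ab aab : ℕ) : qW K m a b ab aab 0 0 = 1 := by
  unfold qW b2ClassWord
  rw [wordG_cons, wordG_cons, wordG_cons, wordG_cons, wordG_nil, zero_pow (pow_ne_zero _ (by norm_num)),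
    zero_pow (Nat.succ_ne_zero _), zero_pow (by positivity), add_zero, xG_zero, xG_zero, xG_zero, xG_zero, mul_one, mul_one,
    mul_one, mul_one]

end Words

section NF

/-- The product over the classes of the class words. -/
theorem prodL_cfL_eq' {K : Type u} [Field K] [CharP K 2] (e : ℕ) (bl : List Blk) (hnd : (rootsL bl).Nodup)
    (hnd' : ∀ B ∈ bl, B.roots.Nodup) (p : ℕ → K) :
    prodL hD4 (rootsL bl) (F4T.cfL e bl p)
      = (bl.map fun B => wordG hD4 (B.word e (p B.p1) (p B.p2 + p B.p1 ^ (e + 1)))).prod := by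
  induction bl with
  | nil => simp [rootsL, prodL]
  | cons B bl ih =>
    have hnd0 := hnd
    rw [rootsL_cons, List.nodup_append] at hnd
    obtain ⟨-, hnd1, hdis⟩ := hnd
    rw [rootsL_cons, prodL_append, List.map_cons, List.prod_cons]
    have e1 : prodL hD4 B.roots (F4T.cfL e (B :: bl) p) = prodL hD4 B.roots (B.cf e p) := by
      apply prodL_congr
      intro s hs
      show (if s ∈ B.roots then B.cf e p s else F4T.cfL e bl p s) = B.cf e p s
      rw [if_pos hs]
    have e2 : prodL hD4 (rootsL bl) (F4T.cfL e (B :: bl) p) = prodL hD4 (rootsL bl) (F4T.cfL e bl p) := by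
      apply prodL_congr
      intro s hs
      show (if s ∈ B.roots then B.cf e p s else F4T.cfL e bl p s) = F4T.cfL e bl p s
      rw [if_neg fun h => hdis s h s hs rfl]
    rw [e1, e2, prodL_cf e B (hnd' B List.mem_cons_self),
      ih hnd1 fun B' hB' => hnd' B' (List.mem_cons_of_mem _ hB')]

variable (K : Type u) [Field K] [Fintype K] [CharP K 2] (m : ℕ) (hq : ∀ t : K, t ^ (2 * 2 ^ m * 2 ^ m) = t)

include hq in
/-- The normal form of the elements of `U ∩ ²F₄(q)` in the order of the octagon. -/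
theorem exists_oct (x : GL chevF4.Idx K) (hxU : x ∈ chevF4.posUnipotent K) (hxG : x ∈ twistedF4 K (2 ^ m)) :
    ∃ t1 t2 υ2 t3 t4 υ4 t5 t6 υ6 t7 t8 υ8 : K,
      x = X1 K m t1 * (X2 K m t2 υ2 * (X3 K m t3 * (X4 K m t4 υ4 * (X5 K m t5 * (X6 K m t6 υ6 *
        (X7 K m t7 * X8 K m t8 υ8)))))) := by
  obtain ⟨t, rfl, ht⟩ := exists_cfL_of_fixed K m hq octBlks octBlks_perm x hxU
    (twistedF4_le_f4Fix K m hq hxG)
  obtain ⟨hok, hnd, hl, hall, hmem⟩ := perm_facts octBlks octBlks_perm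
  rw [prodL_congr hD4 _ _ _ ht,
    prodL_cfL_eq' (2 ^ m) octBlks hnd (fun B hB => B.roots_nodup (hok B hB)) t]
  unfold octBlks
  simp only [List.map_cons, List.map_nil, List.prod_cons, List.prod_nil, mul_one]
  exact ⟨_, _, _, _, _, _, _, _, _, _, _, _, rfl⟩

end NF

end Cfsg.Agent.Lib.Helper18.Inv2F4
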