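/-
helper18: involutions of `²F₄(q)`: the table checks (actions of the elements `n_w` on the root lists, normalisation
by root elements, commuting root groups).
-/
import Cfsg.Agent.Lib.Helper18.Inv2F4.Defs

set_option autoImplicit false

namespace Cfsg.Agent.Lib.Helper18.Inv2F4

open Cfsg.Lie Cfsg.Agent.Lib.Helper18 Cfsg.Agent.Lib.Helper18.F4T Cfsg.Agent.Lib.Helper91.ReeF4 Cfsg.Agent.Lib.Helper91.SigAbs
open Cfsg.Agent.Lib.Helper91.ExcAut Cfsg.Agent.Lib.Helper61.ReeF4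

universe u

/-- All the roots of `l` normalise `Ψ`. -/
def normAll (l Ψ : List ℕ) : Bool := l.all fun s => normOK s Ψ

/-- The image of `Ψ` under the word `ws` lies in `Ψ'`. -/
def mapSub (ws Ψ Ψ' : List ℕ) : Bool := Ψ.all fun r => Ψ'.contains (wordRootF f4tabs ws r)

/-- The image of `Ψ` under the word `ws` is positive. -/
def mapPos (ws Ψ : List ℕ) : Bool := Ψ.all fun r => decide (24 ≤ wordRootF f4tabs ws r ∧ wordRootF f4tabs ws r < 48)

/-- The image of `Ψ` under the word `ws` is negative. -/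
def mapNeg (ws Ψ : List ℕ) : Bool := Ψ.all fun r => decide (wordRootF f4tabs ws r < 24)

/-- The word `ws` fixes the roots of `Ψ`. -/
def mapFix (ws Ψ : List ℕ) : Bool := Ψ.all fun r => wordRootF f4tabs ws r == r

/-- The root groups of the roots of `l` and `l'` commute in characteristic 2. -/
def commAll (l l' : List ℕ) : Bool := l.all fun r => l'.all fun s =>
  decide (r < 48) && decide (s < 48) && !(s == r) && !(s == 47 - r) &&
    (fastF4.commTermsF r s).all fun c => c.2.1 % 2 == 0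

set_option maxRecDepth 100000 in
theorem tabA : normAll c9 ΨQ1 = true ∧ mapSub [0, 3] ΨQ1 ΨQ1 = true ∧ mapSub [0, 3] ΨA1 ΨB1 = true ∧
    mapSub [0, 3] ΨB1 ΨA1 = true ∧ mapFix [0, 3] c5 = true ∧ mapSub [0, 3] c1 c9 = true ∧
    normAll c5 ΨA1 = true ∧ mapPos (wordJ [1, 0, 1]) (ΨA1 ++ c5) = true ∧ mapNeg (wordJ [1, 0, 1]) ΨB1 = true ∧
    commAll c9 c5 = true := by decide +kernel

set_option maxRecDepth 100000 in
theorem tabB : normAll c8 ΨQ8 = true ∧ normAll c16 ΨQ8 = true ∧ mapSub [1, 2, 1, 2] ΨQ8 ΨQ8 = true ∧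
    mapSub [1, 2, 1, 2] ΨA8 ΨB8 = true ∧ mapSub [1, 2, 1, 2] ΨB8 ΨA8 = true ∧ mapFix [1, 2, 1, 2] c4 = true ∧
    mapSub [1, 2, 1, 2] c8 c16 = true ∧ normAll c4 ΨA8 = true ∧
    mapPos (wordJ [0, 1, 0, 1]) (ΨA8 ++ c4) = true ∧ mapNeg (wordJ [0, 1, 0, 1]) ΨB8 = true ∧
    commAll c8 c4 = true ∧ commAll c16 c4 = true := by decide +kernel

end Cfsg.Agent.Lib.Helper18.Inv2F4
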