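/-
helper18: involutions of `²F₄(q)`: the consequences of the table checks for the subgroups `RG Ψ`.
-/
import Cfsg.Agent.Lib.Helper18.Inv2F4.Tabs

set_option autoImplicit false

namespace Cfsg.Agent.Lib.Helper18.Inv2F4

open Cfsg.Lie Cfsg.Agent.Lib.Helper18 Cfsg.Agent.Lib.Helper18.F4T Cfsg.Agent.Lib.Helper91.ReeF4 Cfsg.Agent.Lib.Helper91.SigAbs
open Cfsg.Agent.Lib.Helper91.ExcAut Cfsg.Agent.Lib.Helper61.ReeF4

universe u

variable {K : Type u} [Field K]

/-- The elements of `RG l` normalise `RG Ψ`. -/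
theorem RG_conj_RG (l Ψ : List ℕ) (hok : normAll l Ψ = true) (z : GL chevF4.Idx K) (hz : z ∈ RG K l) :
    (∀ x ∈ RG K Ψ, z * x * z⁻¹ ∈ RG K Ψ) ∧ (∀ x ∈ RG K Ψ, z⁻¹ * x * z ∈ RG K Ψ) := by
  unfold normAll at hok
  rw [List.all_eq_true] at hok
  unfold RG at hz
  induction hz using Subgroup.closure_induction with
  | mem y hy =>
    obtain ⟨r, hr, t, rfl⟩ := hy
    refine ⟨fun x hx => xG_conj_RG r Ψ (hok r hr) t x hx, fun x hx => ?_⟩
    have h := xG_conj_RG r Ψ (hok r hr) (-t) x hx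
    rw [← xG_inv, inv_inv] at h
    exact h
  | one => simp
  | mul y z _ _ hy hz =>
    refine ⟨fun x hx => ?_, fun x hx => ?_⟩
    · have e : y * z * x * (y * z)⁻¹ = y * (z * x * z⁻¹) * y⁻¹ := by group
      rw [e]
      exact hy.1 _ (hz.1 x hx)
    · have e : (y * z)⁻¹ * x * (y * z) = z⁻¹ * (y⁻¹ * x * y) * z := by group
      rw [e]
      exact hz.2 _ (hy.2 x hx)
  | inv y _ hy =>
    refine ⟨fun x hx => ?_, fun x hx => ?_⟩
    · rw [inv_inv]
      exact hy.2 x hx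
    · rw [inv_inv]
      exact hy.1 x hx

/-- Conjugation by `n_w`, into a list containing the images. -/
theorem nW_conj_sub (ws Ψ Ψ' : List ℕ) (hws : ∀ i ∈ ws, i < chevF4.rank) (hΨ : ∀ r ∈ Ψ, r < 48)
    (hok : mapSub ws Ψ Ψ' = true) (x : GL chevF4.Idx K) (hx : x ∈ RG K Ψ) :
    nW hD4 chevData_F4.{u} ws * x * (nW hD4 chevData_F4.{u} ws)⁻¹ ∈ RG K Ψ' := by
  refine RG_mono ?_ (nW_conj_RG ws hws Ψ hΨ x hx)
  unfold mapSub at hok
  rw [List.all_eq_true] at hok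
  intro r hr
  rw [List.mem_map] at hr
  obtain ⟨s, hs, rfl⟩ := hr
  have := hok s hs
  simpa using this

theorem nW_conj_pos (ws Ψ : List ℕ) (hws : ∀ i ∈ ws, i < chevF4.rank) (hΨ : ∀ r ∈ Ψ, r < 48)
    (hok : mapPos ws Ψ = true) (x : GL chevF4.Idx K) (hx : x ∈ RG K Ψ) :
    nW hD4 chevData_F4.{u} ws * x * (nW hD4 chevData_F4.{u} ws)⁻¹ ∈ RG K (Ψ.map (wordRootF f4tabs ws)) ∧
      ∀ r ∈ Ψ.map (wordRootF f4tabs ws), 24 ≤ r ∧ r < 48 := by
  refine ⟨nW_conj_RG ws hws Ψ hΨ x hx, ?_⟩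
  unfold mapPos at hok
  rw [List.all_eq_true] at hok
  intro r hr
  rw [List.mem_map] at hr
  obtain ⟨s, hs, rfl⟩ := hr
  exact of_decide_eq_true (hok s hs)

theorem nW_conj_neg (ws Ψ : List ℕ) (hws : ∀ i ∈ ws, i < chevF4.rank) (hΨ : ∀ r ∈ Ψ, r < 48)
    (hok : mapNeg ws Ψ = true) (x : GL chevF4.Idx K) (hx : x ∈ RG K Ψ) :
    nW hD4 chevData_F4.{u} ws * x * (nW hD4 chevData_F4.{u} ws)⁻¹ ∈ RG K (Ψ.map (wordRootF f4tabs ws)) ∧
      ∀ r ∈ Ψ.map (wordRootF f4tabs ws), r < 24 := by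
  refine ⟨nW_conj_RG ws hws Ψ hΨ x hx, ?_⟩
  unfold mapNeg at hok
  rw [List.all_eq_true] at hok
  intro r hr
  rw [List.mem_map] at hr
  obtain ⟨s, hs, rfl⟩ := hr
  exact of_decide_eq_true (hok s hs)

/-- An element of `RG Ψ` and of `RG Ψ'` is trivial if a word maps `Ψ` to positive and `Ψ'` to negative roots. -/
theorem eq_one_of_map_pos_neg (ws Ψ Ψ' : List ℕ) (hws : ∀ i ∈ ws, i < chevF4.rank) (hΨ : ∀ r ∈ Ψ, r < 48)
    (hΨ' : ∀ r ∈ Ψ', r < 48) (hpos : mapPos ws Ψ = true) (hneg : mapNeg ws Ψ' = true)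
    (x : GL chevF4.Idx K) (hx : x ∈ RG K Ψ) (hx' : x ∈ RG K Ψ') : x = 1 := by
  obtain ⟨h1, h2⟩ := nW_conj_pos ws Ψ hws hΨ hpos x hx
  obtain ⟨h3, h4⟩ := nW_conj_neg ws Ψ' hws hΨ' hneg x hx'
  have h5 := eq_one_of_mem_pos_neg h2 h4 _ h1 h3
  have e : x = (nW hD4 chevData_F4.{u} ws)⁻¹ * (nW hD4 chevData_F4.{u} ws * x * (nW hD4 chevData_F4.{u} ws)⁻¹)
      * nW hD4 chevData_F4.{u} ws := by group
  rw [e, h5]
  group

section Char2

variable [CharP K 2]

/-- `n_w` centralises the root groups of the roots it fixes, in characteristic 2. -/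
theorem nW_comm_RG (ws Ψ : List ℕ) (hws : ∀ i ∈ ws, i < chevF4.rank) (hΨ : ∀ r ∈ Ψ, r < 48)
    (hok : mapFix ws Ψ = true) (z : GL chevF4.Idx K) (hz : z ∈ RG K Ψ) :
    nW hD4 chevData_F4.{u} ws * z = z * nW hD4 chevData_F4.{u} ws := by
  unfold mapFix at hok
  rw [List.all_eq_true] at hok
  unfold RG at hz
  induction hz using Subgroup.closure_induction with
  | mem y hy =>
    obtain ⟨r, hr, t, rfl⟩ := hy
    have h1 := nW_conj_xG (F := K) hD4 chevData_F4.{u} ws hws r (hΨ r hr) t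
    rw [sign_cast _ (wordSignF_cases _ _ _), one_mul, f4tabs_eq, beq_iff_eq.mp (hok r hr)] at h1
    calc nW hD4 chevData_F4.{u} ws * xG hD4 r t
        = (nW hD4 chevData_F4.{u} ws * xG hD4 r t * (nW hD4 chevData_F4.{u} ws)⁻¹) * nW hD4 chevData_F4.{u} ws := by
          group
      _ = _ := by rw [h1]
  | one => simp
  | mul y z _ _ hy hz => rw [← mul_assoc, hy, mul_assoc, hz, mul_assoc]
  | inv y _ hy =>
    have : y⁻¹ * (nW hD4 chevData_F4.{u} ws * y) * y⁻¹ = y⁻¹ * (y * nW hD4 chevData_F4.{u} ws) * y⁻¹ := by rw [hy]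
    have e1 : y⁻¹ * (nW hD4 chevData_F4.{u} ws * y) * y⁻¹ = y⁻¹ * nW hD4 chevData_F4.{u} ws := by group
    have e2 : y⁻¹ * (y * nW hD4 chevData_F4.{u} ws) * y⁻¹ = nW hD4 chevData_F4.{u} ws * y⁻¹ := by group
    rw [e1, e2] at this
    exact this.symm

/-- Two root elements commute if the constants of the commutator formula are even. -/
theorem xG_comm_of_chk (r s : ℕ) (hr : r < 48) (hs : s < 48) (hsr : s ≠ r) (hsn : s ≠ 47 - r)
    (hev : ∀ c ∈ fastF4.commTermsF r s, c.2.1 % 2 = 0) (t u : K) :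
    xG hD4 s u * xG hD4 r t = xG hD4 r t * xG hD4 s u := by
  have hcomm := chevData_F4.{u}.comm K r s hr hs hsr
    (by show s ≠ fastF4.neg r; unfold FastDatum.neg; exact hsn) t u
  have hw : chevF4.wordMat K (chevF4.commWord K r s t u) = 1 := by
    unfold ChevalleyDatum.commWord
    rw [← chevData_F4.{u}.T.commTermsF_eq chevF4 chevData_F4.{u}.hag chevData_F4.{u}.hin r s hr hs]
    have hT : chevData_F4.{u}.T = fastF4 := rfl
    rw [hT]
    generalize fastF4.commTermsF r s = L at hev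
    induction L with
    | nil => simp [ChevalleyDatum.wordMat]
    | cons c L ih =>
      rw [List.map_cons, wordMat_cons', ih fun c' hc' => hev c' (List.mem_cons_of_mem _ hc'), mul_one]
      have h2 : ((c.2.1 : ℤ) : K) = 0 := by
        have := hev c List.mem_cons_self
        obtain ⟨k, hk⟩ := Int.dvd_of_emod_eq_zero this
        rw [hk, Int.cast_mul]
        have : ((2 : ℤ) : K) = 0 := by
          have := CharP.cast_eq_zero K 2
          exact_mod_cast this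
        rw [this, zero_mul]
      show chevF4.x K c.1 (((c.2.1 : ℤ) : K) * (-t) ^ c.2.2.1 * u ^ c.2.2.2) = 1
      rw [h2, zero_mul, zero_mul, x_zero hD4]
  apply Units.ext
  rw [Units.val_mul, Units.val_mul, coe_xG, coe_xG, hcomm, hw, mul_one]

theorem RG_comm (l l' : List ℕ) (hok : commAll l l' = true) (x y : GL chevF4.Idx K) (hx : x ∈ RG K l)
    (hy : y ∈ RG K l') : x * y = y * x := by
  unfold commAll at hok
  rw [List.all_eq_true] at hok
  have key : ∀ r ∈ l, ∀ t : K, ∀ y ∈ RG K l', xG hD4 r t * y = y * xG hD4 r t := by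
    intro r hr t y hy
    have h1 := hok r hr
    rw [List.all_eq_true] at h1
    unfold RG at hy
    induction hy using Subgroup.closure_induction with
    | mem z hz =>
      obtain ⟨s, hs, u, rfl⟩ := hz
      have h2 := h1 s hs
      simp only [Bool.and_eq_true, Bool.not_eq_true', beq_eq_false_iff_ne, ne_eq, List.all_eq_true,
        decide_eq_true_eq, beq_iff_eq] at h2
      obtain ⟨⟨⟨⟨hr48, hs48⟩, hsr⟩, hsn⟩, hev⟩ := h2
      exact (xG_comm_of_chk r s hr48 hs48 hsr hsn hev t u).symm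
    | one => simp
    | mul a b _ _ ha hb => rw [← mul_assoc, ha, mul_assoc, hb, mul_assoc]
    | inv a _ ha =>
      have : a⁻¹ * (xG hD4 r t * a) * a⁻¹ = a⁻¹ * (a * xG hD4 r t) * a⁻¹ := by rw [ha]
      have e1 : a⁻¹ * (xG hD4 r t * a) * a⁻¹ = a⁻¹ * xG hD4 r t := by group
      have e2 : a⁻¹ * (a * xG hD4 r t) * a⁻¹ = xG hD4 r t * a⁻¹ := by group
      rw [e1, e2] at this
      exact this.symm
  unfold RG at hx
  induction hx using Subgroup.closure_induction with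
  | mem z hz =>
    obtain ⟨r, hr, t, rfl⟩ := hz
    exact key r hr t y hy
  | one => simp
  | mul a b _ _ ha hb => rw [mul_assoc, hb, ← mul_assoc, ha, mul_assoc]
  | inv a _ ha =>
    have : a⁻¹ * (a * y) * a⁻¹ = a⁻¹ * (y * a) * a⁻¹ := by rw [ha]
    have e1 : a⁻¹ * (a * y) * a⁻¹ = y * a⁻¹ := by group
    have e2 : a⁻¹ * (y * a) * a⁻¹ = a⁻¹ * y := by group
    rw [e1, e2] at this
    exact this.symm

end Char2

end Cfsg.Agent.Lib.Helper18.Inv2F4
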