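/-
helper18: involutions of `²F₄(q)`: the identities between the class words and the elements `n₁`, `n₈`, the group law
of the classes 1, 4, 8, and the two fusion identities.
-/
import Cfsg.Agent.Lib.Helper18.Inv2F4.Gen
import Cfsg.Agent.S1024

set_option autoImplicit false

namespace Cfsg.Agent.Lib.Helper18.Inv2F4

open Cfsg.Lie Cfsg.Agent.Lib.Helper18 Cfsg.Agent.Lib.Helper18.F4T Cfsg.Agent.Lib.Helper91.ReeF4 Cfsg.Agent.Lib.Helper91.SigAbs
open Cfsg.Agent.Lib.Helper91.ExcAut Cfsg.Agent.Lib.Helper61.ReeF4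

universe u

set_option maxRecDepth 100000 in
theorem rootMaps : (wordRootF f4tabs [0, 3] 33 = 14 ∧ wordRootF f4tabs [0, 3] 24 = 23) ∧
    (wordRootF f4tabs [1, 2, 1, 2] 27 = 20 ∧ wordRootF f4tabs [1, 2, 1, 2] 25 = 22 ∧
      wordRootF f4tabs [1, 2, 1, 2] 28 = 19 ∧ wordRootF f4tabs [1, 2, 1, 2] 30 = 17) ∧
    (wordRootF f4tabs (wordJ [0, 1, 0]) 27 = 29 ∧ wordRootF f4tabs (wordJ [0, 1, 0]) 25 = 41 ∧
      wordRootF f4tabs (wordJ [0, 1, 0]) 28 = 44 ∧ wordRootF f4tabs (wordJ [0, 1, 0]) 30 = 47) ∧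
    (wordRootF f4tabs (wordJ [0, 1]) 33 = 38 ∧ wordRootF f4tabs (wordJ [0, 1]) 24 = 43) := by decide +kernel

section Inj

variable {K : Type u} [Field K]

theorem two_root_eq_one (r s : ℕ) (hr : r < 48) (hs : s < 48) (hne : r ≠ s) (t υ : K)
    (h : xG hD4 r t * xG hD4 s υ = 1) : t = 0 ∧ υ = 0 := by
  have h1 : xG hD4 r t = xG hD4 s (-υ) := by
    rw [← xG_inv]
    exact eq_inv_of_mul_eq_one_left h
  have ht : t = 0 := by
    by_contra ht
    exact hne (xG_inj_root hD4 r s hr hs t (-υ) ht h1).symm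
  refine ⟨ht, ?_⟩
  rw [ht, xG_zero, one_mul] at h
  have h2 : chevF4.x K s υ = 1 := by
    have := congrArg Units.val h
    rwa [coe_xG, Units.val_one] at this
  exact (Cfsg.Agent.S1024.result chevF4 hD4 s hs υ).mp h2

end Inj

section Char2

variable {K : Type u} [Field K] [CharP K 2] (m : ℕ)

theorem X1_one : X1 K m 1 = wordG hD4 [(33, (1 : K)), (24, 1)] := by
  unfold X1 pW f4PairWord
  rw [one_pow]

theorem Y1_one : Y1 K m 1 = wordG hD4 [(14, (1 : K)), (23, 1)] := by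
  unfold Y1 pW f4PairWord
  rw [one_pow]

theorem X8_zero_one : X8 K m 0 1 = wordG hD4 [(28, (1 : K)), (30, 1)] := by
  unfold X8 qW b2ClassWord
  rw [zero_pow (pow_ne_zero _ (by norm_num)), zero_pow (Nat.succ_ne_zero _), one_pow, zero_add]
  simp only [wordG_cons, wordG_nil, xG_zero, one_mul, mul_one]

theorem Y8_zero_one : Y8 K m 0 1 = wordG hD4 [(19, (1 : K)), (17, 1)] := by
  unfold Y8 qW b2ClassWord
  rw [zero_pow (pow_ne_zero _ (by norm_num)), zero_pow (Nat.succ_ne_zero _), one_pow, zero_add]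
  simp only [wordG_cons, wordG_nil, xG_zero, one_mul, mul_one]

theorem n1_eq : n1 K = X1 K m 1 * Y1 K m 1 * X1 K m 1 := by
  rw [X1_one, Y1_one]
  exact nW_J1_eq

theorem n8_eq : n8 K = Y8 K m 0 1 * X8 K m 0 1 * Y8 K m 0 1 * X8 K m 0 1 * Y8 K m 0 1 := by
  rw [X8_zero_one, Y8_zero_one]
  exact nW_J2_eq

theorem X1_mul_self (t : K) : X1 K m t * X1 K m t = 1 := by
  rw [X1_eq, ← pairW_add, CharTwo.add_self_eq_zero, ← X1_eq, X1, pW_zero]

theorem n1_conj_X1 (t : K) : n1 K * X1 K m t * (n1 K)⁻¹ = Y1 K m t := by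
  have h := nW_conj_wordG (K := K) [0, 3] (by decide) (f4PairWord (2 ^ m) 33 24 t) (by
    intro a ha
    simp only [f4PairWord, List.mem_cons, List.not_mem_nil, or_false] at ha
    rcases ha with rfl | rfl
    · show 33 < 48
      norm_num
    · show 24 < 48
      norm_num)
  simp only [f4PairWord, List.map_cons, List.map_nil, rootMaps.1.1, rootMaps.1.2] at h
  exact h

theorem Y1_mul_self (t : K) : Y1 K m t * Y1 K m t = 1 := by
  rw [← n1_conj_X1]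
  have e : n1 K * X1 K m t * (n1 K)⁻¹ * (n1 K * X1 K m t * (n1 K)⁻¹)
      = n1 K * (X1 K m t * X1 K m t) * (n1 K)⁻¹ := by group
  rw [e, X1_mul_self]
  group

theorem n1_mul_self : n1 K * n1 K = 1 := by
  rw [n1_eq 0]
  have h1 := X1_mul_self (K := K) 0 1
  have h2 := Y1_mul_self (K := K) 0 1
  calc X1 K 0 1 * Y1 K 0 1 * X1 K 0 1 * (X1 K 0 1 * Y1 K 0 1 * X1 K 0 1)
      = X1 K 0 1 * Y1 K 0 1 * (X1 K 0 1 * X1 K 0 1) * Y1 K 0 1 * X1 K 0 1 := by group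
    _ = X1 K 0 1 * (Y1 K 0 1 * Y1 K 0 1) * X1 K 0 1 := by rw [h1]; group
    _ = 1 := by rw [h2, mul_one, h1]

/-- `y₁(1) x₁(1) y₁(1)⁻¹ = n₁`. -/
theorem Y1_conj_X1 : Y1 K m 1 * X1 K m 1 * (Y1 K m 1)⁻¹ = n1 K := by
  have h1 := X1_mul_self (K := K) m 1
  have h2 := Y1_mul_self (K := K) m 1
  have hXi : (X1 K m 1)⁻¹ = X1 K m 1 := inv_eq_of_mul_eq_one_left h1
  have hYi : (Y1 K m 1)⁻¹ = Y1 K m 1 := inv_eq_of_mul_eq_one_left h2
  have hn := n1_conj_X1 (K := K) m 1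
  have hni : (n1 K)⁻¹ = n1 K := inv_eq_of_mul_eq_one_left n1_mul_self
  have hne := n1_eq (K := K) m
  -- n X = Y n
  have h3 : n1 K * X1 K m 1 = Y1 K m 1 * n1 K := by
    rw [← hn]; group
  rw [hYi]
  -- Y X Y = X Y X
  have h4 : X1 K m 1 * Y1 K m 1 = Y1 K m 1 * X1 K m 1 * Y1 K m 1 * X1 K m 1 := by
    have : X1 K m 1 * Y1 K m 1 * X1 K m 1 * X1 K m 1 = Y1 K m 1 * (X1 K m 1 * Y1 K m 1 * X1 K m 1) := by
      rw [← hne]; exact h3
    rw [mul_assoc (X1 K m 1 * Y1 K m 1), h1, mul_one] at this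
    rw [this]; group
  rw [hne]
  calc Y1 K m 1 * X1 K m 1 * Y1 K m 1 = (Y1 K m 1 * X1 K m 1 * Y1 K m 1 * X1 K m 1) * (X1 K m 1)⁻¹ := by group
    _ = X1 K m 1 * Y1 K m 1 * X1 K m 1 := by rw [← h4, hXi]

theorem Y1_conj_n1 : Y1 K m 1 * n1 K * (Y1 K m 1)⁻¹ = X1 K m 1 := by
  have h2 := Y1_mul_self (K := K) m 1
  have hYi : (Y1 K m 1)⁻¹ = Y1 K m 1 := inv_eq_of_mul_eq_one_left h2
  rw [← Y1_conj_X1 m, hYi]
  calc Y1 K m 1 * (Y1 K m 1 * X1 K m 1 * Y1 K m 1) * Y1 K m 1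
      = (Y1 K m 1 * Y1 K m 1) * X1 K m 1 * (Y1 K m 1 * Y1 K m 1) := by group
    _ = X1 K m 1 := by rw [h2, one_mul, mul_one]

end Char2

end Cfsg.Agent.Lib.Helper18.Inv2F4
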