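/-
helper18: involutions of `²F₄(q)`: identities for the classes 8 and 4.
-/
import Cfsg.Agent.Lib.Helper18.Inv2F4.Idents

set_option autoImplicit false

namespace Cfsg.Agent.Lib.Helper18.Inv2F4

open Cfsg.Lie Cfsg.Agent.Lib.Helper18 Cfsg.Agent.Lib.Helper18.F4T Cfsg.Agent.Lib.Helper91.ReeF4 Cfsg.Agent.Lib.Helper91.SigAbs
open Cfsg.Agent.Lib.Helper91.ExcAut Cfsg.Agent.Lib.Helper61.ReeF4

universe u

section Char2

variable {K : Type u} [Field K] [CharP K 2] (m : ℕ)

theorem qW_zero_left (a b ab aab : ℕ) (υ : K) :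
    qW K m a b ab aab 0 υ = xG hD4 ab υ * xG hD4 aab (υ ^ (2 * 2 ^ m)) := by
  unfold qW b2ClassWord
  rw [zero_pow (pow_ne_zero _ (by norm_num)), zero_pow (Nat.succ_ne_zero _), zero_add]
  simp only [wordG_cons, wordG_nil, xG_zero, one_mul, mul_one]

theorem qW_zero_left_eq_one (a b ab aab : ℕ) (hab : ab < 48) (haab : aab < 48) (hne : ab ≠ aab) (υ : K)
    (h : qW K m a b ab aab 0 υ = 1) : υ = 0 := by
  rw [qW_zero_left] at h
  exact (two_root_eq_one ab aab hab haab hne _ _ h).1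

theorem pW_eq_one (r rb : ℕ) (hr : r < 48) (hrb : rb < 48) (hne : r ≠ rb) (t : K) (h : pW K m r rb t = 1) :
    t = 0 := by
  unfold pW f4PairWord at h
  rw [wordG_cons, wordG_cons, wordG_nil, mul_one] at h
  exact (two_root_eq_one r rb hr hrb hne _ _ h).2

/-- Conjugation of a class word of type `B₂` by `n_w`. -/
theorem nW_conj_qW (ws : List ℕ) (hws : ∀ i ∈ ws, i < chevF4.rank) (a b ab aab : ℕ) (ha : a < 48) (hb : b < 48)
    (hab : ab < 48) (haab : aab < 48) (t υ : K) :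
    nW hD4 chevData_F4.{u} ws * qW K m a b ab aab t υ * (nW hD4 chevData_F4.{u} ws)⁻¹
      = qW K m (wordRootF f4tabs ws a) (wordRootF f4tabs ws b) (wordRootF f4tabs ws ab)
          (wordRootF f4tabs ws aab) t υ := by
  have h := nW_conj_wordG (K := K) ws hws (b2ClassWord (2 ^ m) a b ab aab t υ) (by
    intro x hx
    simp only [b2ClassWord, List.mem_cons, List.not_mem_nil, or_false] at hx
    rcases hx with rfl | rfl | rfl | rfl
    · exact ha
    · exact hb
    · exact hab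
    · exact haab)
  exact h

/-- Conjugation of a pair word by `n_w`. -/
theorem nW_conj_pW (ws : List ℕ) (hws : ∀ i ∈ ws, i < chevF4.rank) (r rb : ℕ) (hr : r < 48) (hrb : rb < 48)
    (t : K) :
    nW hD4 chevData_F4.{u} ws * pW K m r rb t * (nW hD4 chevData_F4.{u} ws)⁻¹
      = pW K m (wordRootF f4tabs ws r) (wordRootF f4tabs ws rb) t := by
  have h := nW_conj_wordG (K := K) ws hws (f4PairWord (2 ^ m) r rb t) (by
    intro x hx
    simp only [f4PairWord, List.mem_cons, List.not_mem_nil, or_false] at hx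
    rcases hx with rfl | rfl
    · exact hr
    · exact hrb)
  exact h

theorem n8_conj_X8 (t υ : K) : n8 K * X8 K m t υ * (n8 K)⁻¹ = Y8 K m t υ := by
  have h := nW_conj_qW (K := K) m [1, 2, 1, 2] (by decide) 27 25 28 30 (by norm_num) (by norm_num) (by norm_num)
    (by norm_num) t υ
  rw [rootMaps.2.1.1, rootMaps.2.1.2.1, rootMaps.2.1.2.2.1, rootMaps.2.1.2.2.2] at h
  exact h

/-- The element `n_w` with `w = J₁ J₂ J₁`. -/
noncomputable def w4 (K : Type u) [Field K] : GL chevF4.Idx K := nW hD4 chevData_F4.{u} (wordJ [0, 1, 0])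

theorem w4_conj_X8 (t υ : K) : w4 K * X8 K m t υ * (w4 K)⁻¹ = X4 K m t υ := by
  have h := nW_conj_qW (K := K) m (wordJ [0, 1, 0]) (wordJ_lt _) 27 25 28 30 (by norm_num) (by norm_num)
    (by norm_num) (by norm_num) t υ
  rw [rootMaps.2.2.1.1, rootMaps.2.2.1.2.1, rootMaps.2.2.1.2.2.1, rootMaps.2.2.1.2.2.2] at h
  exact h

/-- The element `n_w` with `w = J₁ J₂`. -/
noncomputable def w3 (K : Type u) [Field K] : GL chevF4.Idx K := nW hD4 chevData_F4.{u} (wordJ [0, 1])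

theorem w3_conj_X1 (t : K) : w3 K * X1 K m t * (w3 K)⁻¹ = X3 K m t := by
  have h := nW_conj_pW (K := K) m (wordJ [0, 1]) (wordJ_lt _) 33 24 (by norm_num) (by norm_num) t
  rw [rootMaps.2.2.2.1, rootMaps.2.2.2.2] at h
  exact h

theorem w3_mem : w3 K ∈ twistedF4 K (2 ^ m) := nW_wordJ_mem K (2 ^ m) (pow_ne_zero _ (by norm_num)) _

theorem w4_mem : w4 K ∈ twistedF4 K (2 ^ m) := nW_wordJ_mem K (2 ^ m) (pow_ne_zero _ (by norm_num)) _

variable (hq : ∀ t : K, t ^ (2 * 2 ^ m * 2 ^ m) = t)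

include hq in
theorem X8_mul (t υ t' υ' : K) :
    X8 K m t υ * X8 K m t' υ' = X8 K m (t + t') (υ + υ' + t ^ 2 ^ m * t') := by
  rw [X8_eq, X8_eq, X8_eq]
  exact quadW_mul m hq t υ t' υ'

include hq in
theorem X8_sq (t υ : K) : X8 K m t υ * X8 K m t υ = X8 K m 0 (t ^ (2 ^ m + 1)) := by
  rw [X8_mul m hq, CharTwo.add_self_eq_zero, CharTwo.add_self_eq_zero, zero_add, pow_succ]

include hq in
theorem X4_sq (t υ : K) : X4 K m t υ * X4 K m t υ = X4 K m 0 (t ^ (2 ^ m + 1)) := by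
  rw [← w4_conj_X8, ← w4_conj_X8]
  have e : w4 K * X8 K m t υ * (w4 K)⁻¹ * (w4 K * X8 K m t υ * (w4 K)⁻¹)
      = w4 K * (X8 K m t υ * X8 K m t υ) * (w4 K)⁻¹ := by group
  rw [e, X8_sq m hq]

include hq in
theorem P_mul_self : X8 K m 0 1 * X8 K m 0 1 = 1 := by
  rw [X8_sq m hq, zero_pow (Nat.succ_ne_zero _)]
  exact qW_zero m _ _ _ _

include hq in
theorem N_mul_self : Y8 K m 0 1 * Y8 K m 0 1 = 1 := by
  rw [← n8_conj_X8]
  have e : n8 K * X8 K m 0 1 * (n8 K)⁻¹ * (n8 K * X8 K m 0 1 * (n8 K)⁻¹)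
      = n8 K * (X8 K m 0 1 * X8 K m 0 1) * (n8 K)⁻¹ := by group
  rw [e, P_mul_self m hq]
  group

include hq in
theorem n8_mul_self : n8 K * n8 K = 1 := by
  have hP := P_mul_self (K := K) m hq
  have hN := N_mul_self (K := K) m hq
  rw [n8_eq m]
  generalize X8 K m 0 1 = P at *
  generalize Y8 K m 0 1 = N at *
  calc N * P * N * P * N * (N * P * N * P * N)
      = N * P * N * P * (N * N) * P * N * P * N := by group
    _ = N * P * N * (P * P) * N * P * N := by rw [hN]; group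
    _ = N * P * (N * N) * P * N := by rw [hP]; group
    _ = N * (P * P) * N := by rw [hN]; group
    _ = 1 := by rw [hP, mul_one, hN]

include hq in
/-- `(P N) P (P N)⁻¹ = n₈`. -/
theorem PN_conj_P : (X8 K m 0 1 * Y8 K m 0 1) * X8 K m 0 1 * (X8 K m 0 1 * Y8 K m 0 1)⁻¹ = n8 K := by
  have hP := P_mul_self (K := K) m hq
  have hN := N_mul_self (K := K) m hq
  have hn := n8_conj_X8 (K := K) m 0 1
  have hne := n8_eq (K := K) m
  have hPi : (X8 K m 0 1)⁻¹ = X8 K m 0 1 := inv_eq_of_mul_eq_one_left hP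
  have hNi : (Y8 K m 0 1)⁻¹ = Y8 K m 0 1 := inv_eq_of_mul_eq_one_left hN
  have h3 : n8 K * X8 K m 0 1 = Y8 K m 0 1 * n8 K := by
    rw [← hn]; group
  rw [mul_inv_rev, hPi, hNi]
  generalize X8 K m 0 1 = P at *
  generalize Y8 K m 0 1 = N at *
  -- N P N P N P = N N P N P N = P N P N
  rw [hne] at h3
  have h4 : N * (N * P * N * P * N * P) = N * (N * (N * P * N * P * N)) := by rw [h3]
  have h5 : N * (N * P * N * P * N * P) = (N * N) * P * N * P * N * P := by group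
  have h6 : N * (N * (N * P * N * P * N)) = (N * N) * (N * P * N * P * N) := by group
  rw [h5, h6, hN, one_mul, one_mul] at h4
  rw [hne, ← h4]
  group

end Char2

end Cfsg.Agent.Lib.Helper18.Inv2F4
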