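/-
helper18: involutions of `²F₄(q)`: the case A (an involution of `U` moved out of `U` by `n₁` is conjugate to
`x₁(1) x₅(c)`).
-/
import Cfsg.Agent.Lib.Helper18.Inv2F4.Idents2

set_option autoImplicit false

namespace Cfsg.Agent.Lib.Helper18.Inv2F4

open Cfsg.Lie Cfsg.Agent.Lib.Helper18 Cfsg.Agent.Lib.Helper18.F4T Cfsg.Agent.Lib.Helper91.ReeF4 Cfsg.Agent.Lib.Helper91.SigAbs
open Cfsg.Agent.Lib.Helper91.ExcAut Cfsg.Agent.Lib.Helper61.ReeF4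

universe u

theorem conj_conj {G : Type*} [Group G] (g h x : G) : g * (h * x * h⁻¹) * g⁻¹ = (g * h) * x * (g * h)⁻¹ := by
  group

theorem conj_mul {G : Type*} [Group G] (g x y : G) : g * (x * y) * g⁻¹ = (g * x * g⁻¹) * (g * y * g⁻¹) := by
  group

theorem conj_sq_eq_one {G : Type*} [Group G] (g x : G) (h : x * x = 1) : (g * x * g⁻¹) * (g * x * g⁻¹) = 1 := by
  have e : (g * x * g⁻¹) * (g * x * g⁻¹) = g * (x * x) * g⁻¹ := by group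
  rw [e, h, mul_one, mul_inv_cancel]

theorem ΨQ1_pos : ∀ r ∈ ΨQ1, 24 ≤ r ∧ r < 48 := by decide
theorem ΨQ1_lt : ∀ r ∈ ΨQ1, r < 48 := fun r hr => (ΨQ1_pos r hr).2
theorem ΨA1_sub : ∀ r ∈ ΨA1, r ∈ ΨQ1 := by decide
theorem ΨB1_sub : ∀ r ∈ ΨB1, r ∈ ΨQ1 := by decide
theorem c5_sub : ∀ r ∈ c5, r ∈ ΨQ1 := by decide
theorem ΨA1_lt : ∀ r ∈ ΨA1, r < 48 := by decide
theorem ΨB1_lt : ∀ r ∈ ΨB1, r < 48 := by decide
theorem c5_lt : ∀ r ∈ c5, r < 48 := by decide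
theorem c1_lt : ∀ r ∈ c1, r < 48 := by decide
theorem c9_neg : ∀ r ∈ c9, r < 24 := by decide
theorem ΨA1c5_lt : ∀ r ∈ ΨA1 ++ c5, r < 48 := by decide
theorem ΨA1_sub' : ∀ r ∈ ΨA1, r ∈ ΨA1 ++ c5 := by decide
theorem c5_sub' : ∀ r ∈ c5, r ∈ ΨA1 ++ c5 := by decide

section CaseA

variable (K : Type u) [Field K] [Fintype K] [CharP K 2] (m : ℕ) (hq : ∀ t : K, t ^ (2 * 2 ^ m * 2 ^ m) = t)

include hq in
/-- The decomposition of an element of `U ∩ ²F₄(q)` along `X₁ · (A Z B)`. -/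
theorem decompA (x : GL chevF4.Idx K) (hxU : x ∈ chevF4.posUnipotent K) (hxG : x ∈ twistedF4 K (2 ^ m)) :
    ∃ (t1 c : K) (aa b : GL chevF4.Idx K), aa ∈ RG K ΨA1 ∧ aa ∈ twistedF4 K (2 ^ m) ∧ b ∈ RG K ΨB1 ∧
      b ∈ twistedF4 K (2 ^ m) ∧ x = X1 K m t1 * (aa * X5 K m c * b) := by
  obtain ⟨t1, t2, υ2, t3, t4, υ4, t5, t6, υ6, t7, t8, υ8, rfl⟩ := exists_oct K m hq x hxU hxG
  refine ⟨t1, t5, X2 K m t2 υ2 * X3 K m t3 * X4 K m t4 υ4, X6 K m t6 υ6 * X7 K m t7 * X8 K m t8 υ8, ?_, ?_, ?_, ?_, ?_⟩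
  · exact mul_mem (mul_mem (qW_mem_RG m _ _ _ _ _ _ _ (by decide) (by decide) (by decide) (by decide))
      (pW_mem_RG m _ _ _ _ (by decide) (by decide)))
      (qW_mem_RG m _ _ _ _ _ _ _ (by decide) (by decide) (by decide) (by decide))
  · exact mul_mem (mul_mem (qW_mem m _ _ _ _ (by decide) _ _) (pW_mem m _ _ (by decide) _))
      (qW_mem m _ _ _ _ (by decide) _ _)
  · exact mul_mem (mul_mem (qW_mem_RG m _ _ _ _ _ _ _ (by decide) (by decide) (by decide) (by decide))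
      (pW_mem_RG m _ _ _ _ (by decide) (by decide)))
      (qW_mem_RG m _ _ _ _ _ _ _ (by decide) (by decide) (by decide) (by decide))
  · exact mul_mem (mul_mem (qW_mem m _ _ _ _ (by decide) _ _) (pW_mem m _ _ (by decide) _))
      (qW_mem m _ _ _ _ (by decide) _ _)
  · simp only [mul_assoc]

omit [Fintype K] in
theorem azb_mem_Q1 (aa b : GL chevF4.Idx K) (c : K) (haa : aa ∈ RG K ΨA1) (hb : b ∈ RG K ΨB1) :
    aa * X5 K m c * b ∈ RG K ΨQ1 :=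
  mul_mem (mul_mem (RG_mono ΨA1_sub haa) (pW_mem_RG m _ _ _ _ (by decide) (by decide))) (RG_mono ΨB1_sub hb)

omit [Fintype K] in
/-- `Q₁ ∩ X₁ = 1`. -/
theorem X1_eq_one_of_mem_Q1 (a : K) (h : X1 K m a ∈ RG K ΨQ1) : a = 0 := by
  have h1 := nW_conj_sub (K := K) [0, 3] ΨQ1 ΨQ1 (by decide) ΨQ1_lt tabA.2.1 _ h
  have h2 : nW hD4 chevData_F4.{u} [0, 3] * X1 K m a * (nW hD4 chevData_F4.{u} [0, 3])⁻¹ = Y1 K m a :=
    n1_conj_X1 m a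
  rw [h2] at h1
  have h3 : Y1 K m a ∈ RG K c9 := pW_mem_RG m _ _ _ _ (by decide) (by decide)
  have h4 := eq_one_of_mem_pos_neg ΨQ1_pos c9_neg _ h1 h3
  exact pW_eq_one m 14 23 (by norm_num) (by norm_num) (by norm_num) a h4

include hq in
/-- There is a square root. -/
theorem exists_sq_eq (a : K) : ∃ b : K, b ^ 2 = a := by
  refine ⟨a ^ (2 ^ m * 2 ^ m), ?_⟩
  rw [← pow_mul]
  have := hq a
  rw [← this]
  congr 1
  ring

include hq in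
/-- Case A. -/
theorem caseA (u : GL chevF4.Idx K) (huU : u ∈ chevF4.posUnipotent K) (huG : u ∈ twistedF4 K (2 ^ m))
    (hu2 : u * u = 1) (hnot : n1 K * u * (n1 K)⁻¹ ∉ chevF4.posUnipotent K) :
    ∃ g ∈ twistedF4 K (2 ^ m), ∃ c : K, g * u * g⁻¹ = X1 K m 1 * X5 K m c := by
  obtain ⟨a, c0, aa0, b0, haa0, haa0G, hb0, hb0G, rfl⟩ := decompA K m hq u huU huG
  have hX1G : ∀ t : K, X1 K m t ∈ twistedF4 K (2 ^ m) := fun t => pW_mem m 33 24 (by decide) t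
  have hX5G : ∀ t : K, X5 K m t ∈ twistedF4 K (2 ^ m) := fun t => pW_mem m 39 45 (by decide) t
  -- the first coefficient does not vanish
  have ha : a ≠ 0 := by
    intro ha
    apply hnot
    rw [ha, X1, pW_zero, one_mul]
    exact RG_le_pos ΨQ1_pos (nW_conj_sub (K := K) [0, 3] ΨQ1 ΨQ1 (by decide) ΨQ1_lt tabA.2.1 _
      (azb_mem_Q1 K m aa0 b0 c0 haa0 hb0))
  -- the torus
  obtain ⟨b, hb⟩ := exists_sq_eq K m hq a
  have hb0' : b ≠ 0 := by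
    intro h
    rw [h] at hb
    exact ha (by rw [← hb]; ring)
  let d : Kˣ := (Units.mk0 b hb0')⁻¹
  have hd : (d : K) ^ 2 * a = 1 := by
    show (((Units.mk0 b hb0')⁻¹ : Kˣ) : K) ^ 2 * a = 1
    rw [Units.val_inv_eq_inv_val, Units.val_mk0, ← hb]
    field_simp
  let h := f4H (2 ^ m) (1 : Kˣ) d
  have hhG : h ∈ twistedF4 K (2 ^ m) := f4H_mem_twisted K m hq 1 d
  have hh1 : h * X1 K m a * h⁻¹ = X1 K m 1 := by
    rw [X1_eq, X1_eq, f4H_conj_pairW, hd]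
  set y0 := aa0 * X5 K m c0 * b0 with hy0
  have hy0Q : y0 ∈ RG K ΨQ1 := azb_mem_Q1 K m aa0 b0 c0 haa0 hb0
  have hy0G : y0 ∈ twistedF4 K (2 ^ m) := mul_mem (mul_mem haa0G (hX5G c0)) hb0G
  have hy1Q : h * y0 * h⁻¹ ∈ RG K ΨQ1 := tor4_conj_RG _ _ _ _ ΨQ1 ΨQ1_lt y0 hy0Q
  have hy1G : h * y0 * h⁻¹ ∈ twistedF4 K (2 ^ m) := mul_mem (mul_mem hhG hy0G) (inv_mem hhG)
  -- conjugation by `y₁(1)`
  set Y := Y1 K m 1 with hY
  have hYG : Y ∈ twistedF4 K (2 ^ m) := pW_mem m 14 23 (by decide) 1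
  have hYR : Y ∈ RG K c9 := pW_mem_RG m _ _ _ _ (by decide) (by decide)
  set y2 := Y * (h * y0 * h⁻¹) * Y⁻¹ with hy2
  have hy2Q : y2 ∈ RG K ΨQ1 := (RG_conj_RG c9 ΨQ1 tabA.1 Y hYR).1 _ hy1Q
  have hy2G : y2 ∈ twistedF4 K (2 ^ m) := mul_mem (mul_mem hYG hy1G) (inv_mem hYG)
  have hu2eq : (Y * h) * (X1 K m a * y0) * (Y * h)⁻¹ = n1 K * y2 := by
    rw [← conj_conj, conj_mul h, hh1, conj_mul Y, Y1_conj_X1]
  -- the normal form of `y2`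
  obtain ⟨a', c, aa, bb, haa, haaG, hbb, hbbG, hy2eq⟩ := decompA K m hq y2 (RG_le_pos ΨQ1_pos hy2Q) hy2G
  have ha' : a' = 0 := by
    apply X1_eq_one_of_mem_Q1 K m
    have e : X1 K m a' = y2 * (aa * X5 K m c * bb)⁻¹ := by rw [hy2eq]; group
    rw [e]
    exact mul_mem hy2Q (inv_mem (azb_mem_Q1 K m aa bb c haa hbb))
  rw [ha', X1, pW_zero, one_mul] at hy2eq
  -- the swap lemma
  have hinv : (n1 K * (aa * X5 K m c * bb)) * (n1 K * (aa * X5 K m c * bb)) = 1 := by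
    rw [← hy2eq, ← hu2eq]
    exact conj_sq_eq_one _ _ hu2
  obtain ⟨g, hgG, hg⟩ := swap_conj (twistedF4 K (2 ^ m)) (RG K ΨA1) (RG K c5) (RG K ΨB1) (n1 K)
    (nW_J1_mem K (2 ^ m)) n1_mul_self
    (fun x hx => nW_conj_sub (K := K) [0, 3] ΨA1 ΨB1 (by decide) ΨA1_lt tabA.2.2.1 x hx)
    (fun x hx => nW_conj_sub (K := K) [0, 3] ΨB1 ΨA1 (by decide) ΨB1_lt tabA.2.2.2.1 x hx)
    (fun z hz => nW_comm_RG (K := K) [0, 3] c5 (by decide) c5_lt tabA.2.2.2.2.1 z hz)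
    (fun z hz x hx => (RG_conj_RG c5 ΨA1 tabA.2.2.2.2.2.2.1 z hz).1 x hx)
    (fun x hx z hz y hy hxy => eq_one_of_map_pos_neg (K := K) (wordJ [1, 0, 1]) (ΨA1 ++ c5) ΨB1 (wordJ_lt _)
      ΨA1c5_lt ΨB1_lt tabA.2.2.2.2.2.2.2.1 tabA.2.2.2.2.2.2.2.2.1 y
      (hxy ▸ mul_mem (RG_mono ΨA1_sub' hx) (RG_mono c5_sub' hz)) hy)
    aa (X5 K m c) bb haa haaG (pW_mem_RG m _ _ _ _ (by decide) (by decide)) hbb hinv
  -- back to `x₁(1)`
  have hYX5 : Y * X5 K m c = X5 K m c * Y :=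
    RG_comm c9 c5 tabA.2.2.2.2.2.2.2.2.2 Y (X5 K m c) hYR (pW_mem_RG m _ _ _ _ (by decide) (by decide))
  refine ⟨Y * g * (Y * h), mul_mem (mul_mem hYG hgG) (mul_mem hYG hhG), c, ?_⟩
  have e1 : Y * g * (Y * h) * (X1 K m a * y0) * (Y * g * (Y * h))⁻¹
      = Y * (g * ((Y * h) * (X1 K m a * y0) * (Y * h)⁻¹) * g⁻¹) * Y⁻¹ := by group
  rw [e1, hu2eq, hy2eq, hg, conj_mul Y, Y1_conj_n1]
  have e2 : Y * X5 K m c * Y⁻¹ = X5 K m c := by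
    rw [hYX5]; group
  rw [e2]

end CaseA

end Cfsg.Agent.Lib.Helper18.Inv2F4
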