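/-
helper18: involutions of `²F₄(q)`: the case B (an involution of `U` moved out of `U` by `n₈` is conjugate to
`x₈(0;1) x₄(0;υ)`).
-/
import Cfsg.Agent.Lib.Helper18.Inv2F4.CaseA

set_option autoImplicit false

namespace Cfsg.Agent.Lib.Helper18.Inv2F4

open Cfsg.Lie Cfsg.Agent.Lib.Helper18 Cfsg.Agent.Lib.Helper18.F4T Cfsg.Agent.Lib.Helper91.ReeF4 Cfsg.Agent.Lib.Helper91.SigAbs
open Cfsg.Agent.Lib.Helper91.ExcAut Cfsg.Agent.Lib.Helper61.ReeF4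

universe u

theorem ΨQ8_pos : ∀ r ∈ ΨQ8, 24 ≤ r ∧ r < 48 := by decide
theorem ΨQ8_lt : ∀ r ∈ ΨQ8, r < 48 := fun r hr => (ΨQ8_pos r hr).2
theorem ΨA8_sub : ∀ r ∈ ΨA8, r ∈ ΨQ8 := by decide
theorem ΨB8_sub : ∀ r ∈ ΨB8, r ∈ ΨQ8 := by decide
theorem c4_sub : ∀ r ∈ c4, r ∈ ΨQ8 := by decide
theorem ΨA8_lt : ∀ r ∈ ΨA8, r < 48 := by decide
theorem ΨB8_lt : ∀ r ∈ ΨB8, r < 48 := by decide
theorem c4_lt : ∀ r ∈ c4, r < 48 := by decide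
theorem c8_lt : ∀ r ∈ c8, r < 48 := by decide
theorem c16_neg : ∀ r ∈ c16, r < 24 := by decide
theorem ΨA8c4_lt : ∀ r ∈ ΨA8 ++ c4, r < 48 := by decide
theorem ΨA8_sub' : ∀ r ∈ ΨA8, r ∈ ΨA8 ++ c4 := by decide
theorem c4_sub' : ∀ r ∈ c4, r ∈ ΨA8 ++ c4 := by decide

section CaseB

variable (K : Type u) [Field K] [Fintype K] [CharP K 2] (m : ℕ) (hq : ∀ t : K, t ^ (2 * 2 ^ m * 2 ^ m) = t)

include hq in
/-- The decomposition of an element of `U ∩ ²F₄(q)` along `(A Z B) · X₈`. -/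
theorem decompB (x : GL chevF4.Idx K) (hxU : x ∈ chevF4.posUnipotent K) (hxG : x ∈ twistedF4 K (2 ^ m)) :
    ∃ (t4 υ4 t8 υ8 : K) (aa b : GL chevF4.Idx K), aa ∈ RG K ΨA8 ∧ aa ∈ twistedF4 K (2 ^ m) ∧ b ∈ RG K ΨB8 ∧
      b ∈ twistedF4 K (2 ^ m) ∧ x = (aa * X4 K m t4 υ4 * b) * X8 K m t8 υ8 := by
  obtain ⟨t1, t2, υ2, t3, t4, υ4, t5, t6, υ6, t7, t8, υ8, rfl⟩ := exists_oct K m hq x hxU hxG
  refine ⟨t4, υ4, t8, υ8, X1 K m t1 * X2 K m t2 υ2 * X3 K m t3, X5 K m t5 * X6 K m t6 υ6 * X7 K m t7,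
    ?_, ?_, ?_, ?_, ?_⟩
  · exact mul_mem (mul_mem (pW_mem_RG m _ _ _ _ (by decide) (by decide))
      (qW_mem_RG m _ _ _ _ _ _ _ (by decide) (by decide) (by decide) (by decide)))
      (pW_mem_RG m _ _ _ _ (by decide) (by decide))
  · exact mul_mem (mul_mem (pW_mem m _ _ (by decide) _) (qW_mem m _ _ _ _ (by decide) _ _))
      (pW_mem m _ _ (by decide) _)
  · exact mul_mem (mul_mem (pW_mem_RG m _ _ _ _ (by decide) (by decide))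
      (qW_mem_RG m _ _ _ _ _ _ _ (by decide) (by decide) (by decide) (by decide)))
      (pW_mem_RG m _ _ _ _ (by decide) (by decide))
  · exact mul_mem (mul_mem (pW_mem m _ _ (by decide) _) (qW_mem m _ _ _ _ (by decide) _ _))
      (pW_mem m _ _ (by decide) _)
  · simp only [mul_assoc]

omit [Fintype K] in
theorem azb_mem_Q8 (aa b : GL chevF4.Idx K) (t υ : K) (haa : aa ∈ RG K ΨA8) (hb : b ∈ RG K ΨB8) :
    aa * X4 K m t υ * b ∈ RG K ΨQ8 :=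
  mul_mem (mul_mem (RG_mono ΨA8_sub haa)
    (qW_mem_RG m _ _ _ _ _ _ _ (by decide) (by decide) (by decide) (by decide))) (RG_mono ΨB8_sub hb)

omit [Fintype K] in
/-- `Q₈ ∩ X₈ = 1`. -/
theorem X8_eq_one_of_mem_Q8 (t υ : K) (h : X8 K m t υ ∈ RG K ΨQ8) : X8 K m t υ = 1 := by
  have h1 := nW_conj_sub (K := K) [1, 2, 1, 2] ΨQ8 ΨQ8 (by decide) ΨQ8_lt tabB.2.2.1 _ h
  have h2 : nW hD4 chevData_F4.{u} [1, 2, 1, 2] * X8 K m t υ * (nW hD4 chevData_F4.{u} [1, 2, 1, 2])⁻¹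
      = Y8 K m t υ := n8_conj_X8 m t υ
  rw [h2] at h1
  have h3 : Y8 K m t υ ∈ RG K c16 := qW_mem_RG m _ _ _ _ _ _ _ (by decide) (by decide) (by decide) (by decide)
  have h4 := eq_one_of_mem_pos_neg ΨQ8_pos c16_neg _ h1 h3
  rw [h4] at h2
  have e : X8 K m t υ = (nW hD4 chevData_F4.{u} [1, 2, 1, 2])⁻¹
      * (nW hD4 chevData_F4.{u} [1, 2, 1, 2] * X8 K m t υ * (nW hD4 chevData_F4.{u} [1, 2, 1, 2])⁻¹)
      * nW hD4 chevData_F4.{u} [1, 2, 1, 2] := by group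
  rw [e, h2]
  group

include hq in
/-- Case B. -/
theorem caseB (u : GL chevF4.Idx K) (huU : u ∈ chevF4.posUnipotent K) (huG : u ∈ twistedF4 K (2 ^ m))
    (hu2 : u * u = 1) (hnot : n8 K * u * (n8 K)⁻¹ ∉ chevF4.posUnipotent K) :
    ∃ g ∈ twistedF4 K (2 ^ m), ∃ υ : K, g * u * g⁻¹ = X8 K m 0 1 * X4 K m 0 υ := by
  have he : (2 : ℕ) ^ m ≠ 0 := pow_ne_zero _ (by norm_num)
  obtain ⟨τ4, υ4, τ, υ, aa0, b0, haa0, haa0G, hb0, hb0G, rfl⟩ := decompB K m hq u huU huG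
  have hX8G : ∀ t υ : K, X8 K m t υ ∈ twistedF4 K (2 ^ m) := fun t υ => qW_mem m 27 25 28 30 (by decide) t υ
  have hX4G : ∀ t υ : K, X4 K m t υ ∈ twistedF4 K (2 ^ m) := fun t υ => qW_mem m 29 41 44 47 (by decide) t υ
  have hX8R : ∀ t υ : K, X8 K m t υ ∈ RG K c8 :=
    fun t υ => qW_mem_RG m _ _ _ _ _ _ _ (by decide) (by decide) (by decide) (by decide)
  have hX4R : ∀ t υ : K, X4 K m t υ ∈ RG K c4 :=
    fun t υ => qW_mem_RG m _ _ _ _ _ _ _ (by decide) (by decide) (by decide) (by decide)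
  set y0 := aa0 * X4 K m τ4 υ4 * b0 with hy0
  have hy0Q : y0 ∈ RG K ΨQ8 := azb_mem_Q8 K m aa0 b0 τ4 υ4 haa0 hb0
  have hy0G : y0 ∈ twistedF4 K (2 ^ m) := mul_mem (mul_mem haa0G (hX4G _ _)) hb0G
  -- `τ = 0`
  have hτ : τ = 0 := by
    have h1 : X8 K m τ υ * X8 K m τ υ = (y0 * (X8 K m τ υ * y0 * (X8 K m τ υ)⁻¹))⁻¹ := by
      have e : y0 * X8 K m τ υ * (y0 * X8 K m τ υ)
          = (y0 * (X8 K m τ υ * y0 * (X8 K m τ υ)⁻¹)) * (X8 K m τ υ * X8 K m τ υ) := by group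
      rw [e] at hu2
      exact eq_inv_of_mul_eq_one_right hu2
    have h2 : X8 K m τ υ * X8 K m τ υ ∈ RG K ΨQ8 := by
      rw [h1]
      exact inv_mem (mul_mem hy0Q ((RG_conj_RG c8 ΨQ8 tabB.1 _ (hX8R τ υ)).1 _ hy0Q))
    rw [X8_sq m hq] at h2
    have h3 := X8_eq_one_of_mem_Q8 K m _ _ h2
    have h4 := qW_zero_left_eq_one m 27 25 28 30 (by norm_num) (by norm_num) (by norm_num) _ h3
    exact pow_eq_zero_iff (Nat.succ_ne_zero _) |>.mp h4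
  subst hτ
  -- `υ ≠ 0`
  have hυ : υ ≠ 0 := by
    intro hυ
    apply hnot
    rw [hυ, X8, qW_zero, mul_one]
    exact RG_le_pos ΨQ8_pos (nW_conj_sub (K := K) [1, 2, 1, 2] ΨQ8 ΨQ8 (by decide) ΨQ8_lt tabB.2.2.1 _ hy0Q)
  -- the torus
  let c : Kˣ := (Units.mk0 υ hυ)⁻¹
  have hc : (c : K) * υ = 1 := by
    show (((Units.mk0 υ hυ)⁻¹ : Kˣ) : K) * υ = 1
    rw [Units.val_inv_eq_inv_val, Units.val_mk0]
    exact inv_mul_cancel₀ hυ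
  let h := f4H (2 ^ m) c (1 : Kˣ)
  have hhG : h ∈ twistedF4 K (2 ^ m) := f4H_mem_twisted K m hq c 1
  have hh1 : h * X8 K m 0 υ * h⁻¹ = X8 K m 0 1 := by
    rw [X8_eq, X8_eq, f4H_conj_quadW m hq, mul_zero, hc]
  have hy1Q : h * y0 * h⁻¹ ∈ RG K ΨQ8 := tor4_conj_RG _ _ _ _ ΨQ8 ΨQ8_lt y0 hy0Q
  have hy1G : h * y0 * h⁻¹ ∈ twistedF4 K (2 ^ m) := mul_mem (mul_mem hhG hy0G) (inv_mem hhG)
  -- conjugation by `P N`
  set P := X8 K m 0 1 with hP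
  set N := Y8 K m 0 1 with hN
  have hPG : P ∈ twistedF4 K (2 ^ m) := hX8G 0 1
  have hNG : N ∈ twistedF4 K (2 ^ m) := qW_mem m 20 22 19 17 (by decide) 0 1
  have hPR : P ∈ RG K c8 := hX8R 0 1
  have hNR : N ∈ RG K c16 := qW_mem_RG m _ _ _ _ _ _ _ (by decide) (by decide) (by decide) (by decide)
  have hn8G : n8 K ∈ twistedF4 K (2 ^ m) := nW_J2_mem K (2 ^ m) he
  set y2 := (P * N) * (h * y0 * h⁻¹) * (P * N)⁻¹ with hy2
  have hy2Q : y2 ∈ RG K ΨQ8 := by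
    rw [hy2, ← conj_conj]
    exact (RG_conj_RG c8 ΨQ8 tabB.1 P hPR).1 _ ((RG_conj_RG c16 ΨQ8 tabB.2.1 N hNR).1 _ hy1Q)
  have hy2G : y2 ∈ twistedF4 K (2 ^ m) :=
    mul_mem (mul_mem (mul_mem hPG hNG) hy1G) (inv_mem (mul_mem hPG hNG))
  have hn8i : (n8 K)⁻¹ = n8 K := inv_eq_of_mul_eq_one_left (n8_mul_self m hq)
  have hstep : (P * N * h) * (y0 * X8 K m 0 υ) * (P * N * h)⁻¹ = y2 * n8 K := by
    rw [← conj_conj, conj_mul h, hh1, conj_mul (P * N), PN_conj_P m hq]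
  have hu3eq : (n8 K * (P * N * h)) * (y0 * X8 K m 0 υ) * (n8 K * (P * N * h))⁻¹ = n8 K * y2 := by
    rw [← conj_conj, hstep]
    group
  -- the normal form of `y2`
  obtain ⟨t4, w4, t8, w8, aa, bb, haa, haaG, hbb, hbbG, hy2eq⟩ :=
    decompB K m hq y2 (RG_le_pos ΨQ8_pos hy2Q) hy2G
  have hX8one : X8 K m t8 w8 = 1 := by
    apply X8_eq_one_of_mem_Q8 K m
    have e : X8 K m t8 w8 = (aa * X4 K m t4 w4 * bb)⁻¹ * y2 := by rw [hy2eq]; group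
    rw [e]
    exact mul_mem (inv_mem (azb_mem_Q8 K m aa bb t4 w4 haa hbb)) hy2Q
  rw [hX8one, mul_one] at hy2eq
  -- the swap lemma
  have hinv : (n8 K * (aa * X4 K m t4 w4 * bb)) * (n8 K * (aa * X4 K m t4 w4 * bb)) = 1 := by
    rw [← hy2eq, ← hu3eq]
    exact conj_sq_eq_one _ _ hu2
  obtain ⟨g, hgG, hg⟩ := swap_conj (twistedF4 K (2 ^ m)) (RG K ΨA8) (RG K c4) (RG K ΨB8) (n8 K)
    hn8G (n8_mul_self m hq)
    (fun x hx => nW_conj_sub (K := K) [1, 2, 1, 2] ΨA8 ΨB8 (by decide) ΨA8_lt tabB.2.2.2.1 x hx)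
    (fun x hx => nW_conj_sub (K := K) [1, 2, 1, 2] ΨB8 ΨA8 (by decide) ΨB8_lt tabB.2.2.2.2.1 x hx)
    (fun z hz => nW_comm_RG (K := K) [1, 2, 1, 2] c4 (by decide) c4_lt tabB.2.2.2.2.2.1 z hz)
    (fun z hz x hx => (RG_conj_RG c4 ΨA8 tabB.2.2.2.2.2.2.2.1 z hz).1 x hx)
    (fun x hx z hz y hy hxy => eq_one_of_map_pos_neg (K := K) (wordJ [0, 1, 0, 1]) (ΨA8 ++ c4) ΨB8 (wordJ_lt _)
      ΨA8c4_lt ΨB8_lt tabB.2.2.2.2.2.2.2.2.1 tabB.2.2.2.2.2.2.2.2.2.1 y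
      (hxy ▸ mul_mem (RG_mono ΨA8_sub' hx) (RG_mono c4_sub' hz)) hy)
    aa (X4 K m t4 w4) bb haa haaG (hX4R t4 w4) hbb hinv
  -- `t4 = 0`
  have hzn : n8 K * X4 K m t4 w4 = X4 K m t4 w4 * n8 K :=
    nW_comm_RG (K := K) [1, 2, 1, 2] c4 (by decide) c4_lt tabB.2.2.2.2.2.1 _ (hX4R t4 w4)
  have hzz : X4 K m t4 w4 * X4 K m t4 w4 = 1 := by
    have h1 : (n8 K * X4 K m t4 w4) * (n8 K * X4 K m t4 w4) = 1 := by
      rw [← hg]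
      exact conj_sq_eq_one _ _ hinv
    have e : (n8 K * X4 K m t4 w4) * (n8 K * X4 K m t4 w4)
        = n8 K * (X4 K m t4 w4 * n8 K) * X4 K m t4 w4 := by group
    rw [e, ← hzn] at h1
    have e2 : n8 K * (n8 K * X4 K m t4 w4) * X4 K m t4 w4 = (n8 K * n8 K) * (X4 K m t4 w4 * X4 K m t4 w4) := by
      group
    rw [e2, n8_mul_self m hq, one_mul] at h1
    exact h1
  have ht4 : t4 = 0 := by
    rw [X4_sq m hq] at hzz
    have h4 := qW_zero_left_eq_one m 29 41 44 47 (by norm_num) (by norm_num) (by norm_num) _ hzz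
    exact pow_eq_zero_iff (Nat.succ_ne_zero _) |>.mp h4
  subst ht4
  -- back to `P`
  have hPz : P * X4 K m 0 w4 = X4 K m 0 w4 * P := RG_comm c8 c4 tabB.2.2.2.2.2.2.2.2.2.2.1 P _ hPR (hX4R 0 w4)
  have hNz : N * X4 K m 0 w4 = X4 K m 0 w4 * N := RG_comm c16 c4 tabB.2.2.2.2.2.2.2.2.2.2.2 N _ hNR (hX4R 0 w4)
  refine ⟨(P * N)⁻¹ * g * (n8 K * (P * N * h)),
    mul_mem (mul_mem (inv_mem (mul_mem hPG hNG)) hgG) (mul_mem hn8G (mul_mem (mul_mem hPG hNG) hhG)), w4, ?_⟩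
  have e1 : (P * N)⁻¹ * g * (n8 K * (P * N * h)) * (y0 * X8 K m 0 υ) * ((P * N)⁻¹ * g * (n8 K * (P * N * h)))⁻¹
      = (P * N)⁻¹ * (g * ((n8 K * (P * N * h)) * (y0 * X8 K m 0 υ) * (n8 K * (P * N * h))⁻¹) * g⁻¹)
        * (P * N)⁻¹⁻¹ := by group
  rw [e1, hu3eq, hy2eq, hg, ← PN_conj_P m hq]
  have e2 : (P * N)⁻¹ * (P * N * P * (P * N)⁻¹ * X4 K m 0 w4) * (P * N)⁻¹⁻¹
      = P * ((P * N)⁻¹ * X4 K m 0 w4 * (P * N)) := by group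
  rw [e2]
  have e3 : (P * N)⁻¹ * X4 K m 0 w4 * (P * N) = X4 K m 0 w4 := by
    have : X4 K m 0 w4 * (P * N) = (P * N) * X4 K m 0 w4 := by
      calc X4 K m 0 w4 * (P * N) = (X4 K m 0 w4 * P) * N := by group
        _ = (P * X4 K m 0 w4) * N := by rw [hPz]
        _ = P * (X4 K m 0 w4 * N) := by group
        _ = P * (N * X4 K m 0 w4) := by rw [hNz]
        _ = (P * N) * X4 K m 0 w4 := by group
    rw [mul_assoc, this]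
    group
  rw [e3]

end CaseB

end Cfsg.Agent.Lib.Helper18.Inv2F4
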