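/-
helper18: involutions of `²F₄(q)`: the checks of the two fusion identities with the polynomial engine modulo 2.
-/
import Cfsg.Agent.Lib.Helper18.Inv2F4.Idents2

set_option autoImplicit false

namespace Cfsg.Agent.Lib.Helper18.Inv2F4

open Cfsg.Lie Cfsg.Agent.Lib.Helper18 Cfsg.Agent.Lib.Helper18.F4T Cfsg.Agent.Lib.Helper91.ReeF4 Cfsg.Agent.Lib.Helper91.SigAbs
open Cfsg.Agent.Lib.Helper91.ExcAut Cfsg.Agent.Lib.Helper61.ReeF4

universe u

def ps : Poly := sv 2
def pS : Poly := sv 3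

def a7G : List (ℕ × Poly) :=
  [(29, ps), (41, mulPoly pS pS), (44, mulPoly ps (mulPoly pS pS)), (35, ps), (31, mulPoly pS pS),
   (46, mulPoly (mulPoly ps ps) (mulPoly pS pS)), (37, mulPoly pS pS), (32, mulPoly ps ps)]

def a7L : List (ℕ × Poly) := a7G ++ [(33, onePoly), (24, onePoly)]

def a7R : List (ℕ × Poly) := [(33, onePoly), (24, onePoly), (39, mulPoly ps ps), (45, powPoly pS 4)] ++ a7G

set_option maxRecDepth 100000 in
theorem a7_chk : wordEqChk chevF4 2 a7L a7R = true := by decide +kernel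

def b7g : List (ℕ × Poly) := [cw1 33, cw1 24, cw1 14, cw1 23, cw1 19, cw1 17, cw1 28, cw1 30]

set_option maxRecDepth 100000 in
theorem b7_chk : wordEqChk chevF4 2 ([cw1 44, cw1 47, cw1 28, cw1 30] ++ b7g) (b7g ++ [cw1 38, cw1 43]) = true := by
  decide +kernel

end Cfsg.Agent.Lib.Helper18.Inv2F4
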