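/-
helper18: involutions of `²F₄(q)`: the two fusion identities.
-/
import Cfsg.Agent.Lib.Helper18.Inv2F4.FuseChk

set_option autoImplicit false

namespace Cfsg.Agent.Lib.Helper18.Inv2F4

open Cfsg.Lie Cfsg.Agent.Lib.Helper18 Cfsg.Agent.Lib.Helper18.F4T Cfsg.Agent.Lib.Helper91.ReeF4 Cfsg.Agent.Lib.Helper91.SigAbs
open Cfsg.Agent.Lib.Helper91.ExcAut Cfsg.Agent.Lib.Helper61.ReeF4

universe u

section Char2

variable {K : Type u} [Field K] [CharP K 2]

/-- The valuation of the two variables. -/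
def val2 (s S : K) : ℕ → K := fun k => if k = 2 then s else if k = 3 then S else 1

/-- The first fusion identity, for independent `s`, `S`. -/
theorem a7_identity (s S : K) :
    wordG hD4 [(29, s), (41, S ^ 2), (44, s * S ^ 2), (35, s), (31, S ^ 2), (46, s ^ 2 * S ^ 2), (37, S ^ 2), (32, s ^ 2)]
        * wordG hD4 [(33, (1 : K)), (24, 1)]
      = wordG hD4 [(33, (1 : K)), (24, 1)] * wordG hD4 [(39, s ^ 2), (45, S ^ 4)]
        * wordG hD4 [(29, s), (41, S ^ 2), (44, s * S ^ 2), (35, s), (31, S ^ 2), (46, s ^ 2 * S ^ 2), (37, S ^ 2),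
            (32, s ^ 2)] := by
  have h := wordMat_eq_of_wordEqChk chevF4 (val2 s S) (by simp [val2]) 2
    (CharP.cast_eq_zero K 2) a7L a7R a7_chk
  have eL : evWord (val2 s S) a7L
      = [(29, s), (41, S ^ 2), (44, s * S ^ 2), (35, s), (31, S ^ 2), (46, s ^ 2 * S ^ 2), (37, S ^ 2), (32, s ^ 2)]
        ++ [(33, (1 : K)), (24, 1)] := by
    simp [evWord, a7L, a7G, ps, pS, sv, val2, evPoly_mulPoly, evPoly_powPoly, pow_two]
  have eR : evWord (val2 s S) a7R
      = [(33, (1 : K)), (24, 1)] ++ [(39, s ^ 2), (45, S ^ 4)]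
        ++ [(29, s), (41, S ^ 2), (44, s * S ^ 2), (35, s), (31, S ^ 2), (46, s ^ 2 * S ^ 2), (37, S ^ 2), (32, s ^ 2)] := by
    simp [evWord, a7R, a7G, ps, pS, sv, val2, evPoly_mulPoly, evPoly_powPoly, pow_two]
  rw [eL, eR] at h
  rw [← wordG_append, ← wordG_append, ← wordG_append]
  apply Units.ext
  rw [coe_wordG, coe_wordG]
  exact h

/-- The second fusion identity. -/
theorem b7_identity :
    wordG hD4 [(44, (1 : K)), (47, 1)] * wordG hD4 [(28, (1 : K)), (30, 1)]
        * (wordG hD4 [(33, (1 : K)), (24, 1)] * wordG hD4 [(14, (1 : K)), (23, 1)]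
          * wordG hD4 [(19, (1 : K)), (17, 1)] * wordG hD4 [(28, (1 : K)), (30, 1)])
      = (wordG hD4 [(33, (1 : K)), (24, 1)] * wordG hD4 [(14, (1 : K)), (23, 1)]
          * wordG hD4 [(19, (1 : K)), (17, 1)] * wordG hD4 [(28, (1 : K)), (30, 1)])
        * wordG hD4 [(38, (1 : K)), (43, 1)] := by
  have h := one_wordMat_eq (K := K) _ _ b7_chk
  simp only [evWord, cw1, b7g, List.map_cons, List.map_nil, evPoly_onePoly, List.cons_append, List.nil_append] at h
  simp only [← wordG_append]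
  apply Units.ext
  rw [coe_wordG, coe_wordG]
  exact h

end Char2

end Cfsg.Agent.Lib.Helper18.Inv2F4
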