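/-
helper18: involutions of `²F₄(q)`: the fusion in the case A: `x₁(1) x₅(c)` is conjugate to `x₁(1)`.
-/
import Cfsg.Agent.Lib.Helper18.Inv2F4.Fuse

set_option autoImplicit false

namespace Cfsg.Agent.Lib.Helper18.Inv2F4

open Cfsg.Lie Cfsg.Agent.Lib.Helper18 Cfsg.Agent.Lib.Helper18.F4T Cfsg.Agent.Lib.Helper91.ReeF4 Cfsg.Agent.Lib.Helper91.SigAbs
open Cfsg.Agent.Lib.Helper91.ExcAut Cfsg.Agent.Lib.Helper61.ReeF4

universe u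

section FuseA

variable (K : Type u) [Field K] [CharP K 2] (m : ℕ) (hq : ∀ t : K, t ^ (2 * 2 ^ m * 2 ^ m) = t)

include hq in
theorem exists_sS (c : K) : ∃ s S : K, (S ^ 2) ^ 2 ^ m = s ∧ (s * S ^ 2) ^ (2 * 2 ^ m) = s ^ 2 * S ^ 2 ∧
    (s ^ 2) ^ 2 ^ m = S ^ 2 ∧ S ^ 4 = c ∧ (S ^ 4) ^ 2 ^ m = s ^ 2 := by
  have hS4 : ∀ s : K, (s ^ 2 ^ m) ^ (4 * 2 ^ m) = s ^ 2 := by
    intro s
    rw [← pow_mul]
    have : 2 ^ m * (4 * 2 ^ m) = (2 * 2 ^ m * 2 ^ m) * 2 := by ring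
    rw [this, pow_mul, hq s]
  refine ⟨c ^ (2 ^ m * 2 ^ m * 2 ^ m), (c ^ (2 ^ m * 2 ^ m * 2 ^ m)) ^ 2 ^ m, ?_, ?_, ?_, ?_, ?_⟩
  · generalize c ^ (2 ^ m * 2 ^ m * 2 ^ m) = s
    rw [← pow_mul, ← pow_mul]
    have : 2 ^ m * (2 * 2 ^ m) = 2 * 2 ^ m * 2 ^ m := by ring
    rw [this]
    exact hq s
  · generalize c ^ (2 ^ m * 2 ^ m * 2 ^ m) = s
    rw [mul_pow, ← pow_mul ((s ^ 2 ^ m)) 2 (2 * 2 ^ m)]
    have e1 : s ^ (2 * 2 ^ m) = (s ^ 2 ^ m) ^ 2 := by rw [← pow_mul, mul_comm]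
    have e2 : 2 * (2 * 2 ^ m) = 4 * 2 ^ m := by ring
    rw [e1, e2, hS4 s]
    ring
  · generalize c ^ (2 ^ m * 2 ^ m * 2 ^ m) = s
    rw [← pow_mul, ← pow_mul, mul_comm]
  · rw [← pow_mul, ← pow_mul]
    have : 2 ^ m * 2 ^ m * 2 ^ m * (2 ^ m * 4) = (2 * 2 ^ m * 2 ^ m) * (2 * 2 ^ m * 2 ^ m) := by ring
    rw [this, pow_mul, hq c, hq c]
  · generalize c ^ (2 ^ m * 2 ^ m * 2 ^ m) = s
    rw [← pow_mul ((s ^ 2 ^ m)) 4 (2 ^ m)]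
    exact hS4 s

include hq in
theorem fuseA (c : K) : ∃ g ∈ twistedF4 K (2 ^ m), g * X1 K m 1 * g⁻¹ = X1 K m 1 * X5 K m c := by
  obtain ⟨s, S, f1, f2, f3, f5, f6⟩ := exists_sS K m hq c
  -- the three class words
  have e4 : X4 K m (S ^ 2) 0 = wordG hD4 [(29, s), (41, S ^ 2), (44, s * S ^ 2)] := by
    unfold X4 qW b2ClassWord
    rw [pow_succ (S ^ 2) (2 ^ m), f1, add_zero, zero_pow (by positivity)]
    simp only [wordG_cons, wordG_nil, xG_zero, mul_one]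
  have e6 : X6 K m (S ^ 2) (s * S ^ 2) = wordG hD4 [(35, s), (31, S ^ 2), (46, s ^ 2 * S ^ 2)] := by
    unfold X6 qW b2ClassWord
    rw [pow_succ (S ^ 2) (2 ^ m), f1, CharTwo.add_self_eq_zero, f2]
    simp only [wordG_cons, wordG_nil, xG_zero, mul_one, one_mul]
  have e7 : X7 K m (s ^ 2) = wordG hD4 [(37, S ^ 2), (32, s ^ 2)] := by
    unfold X7 pW f4PairWord
    rw [f3]
  have e5 : X5 K m c = wordG hD4 [(39, s ^ 2), (45, S ^ 4)] := by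
    unfold X5 pW f4PairWord
    rw [← f5, f6]
  refine ⟨X4 K m (S ^ 2) 0 * X6 K m (S ^ 2) (s * S ^ 2) * X7 K m (s ^ 2),
    mul_mem (mul_mem (qW_mem m _ _ _ _ (by decide) _ _) (qW_mem m _ _ _ _ (by decide) _ _))
      (pW_mem m _ _ (by decide) _), ?_⟩
  have hid := a7_identity (K := K) s S
  have eG : X4 K m (S ^ 2) 0 * X6 K m (S ^ 2) (s * S ^ 2) * X7 K m (s ^ 2)
      = wordG hD4 [(29, s), (41, S ^ 2), (44, s * S ^ 2), (35, s), (31, S ^ 2), (46, s ^ 2 * S ^ 2), (37, S ^ 2),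
          (32, s ^ 2)] := by
    rw [e4, e6, e7, ← wordG_append, ← wordG_append]
    rfl
  rw [eG, e5, X1_one]
  generalize wordG hD4 [(29, s), (41, S ^ 2), (44, s * S ^ 2), (35, s), (31, S ^ 2), (46, s ^ 2 * S ^ 2), (37, S ^ 2),
          (32, s ^ 2)] = G at hid ⊢
  rw [hid]
  group

end FuseA

end Cfsg.Agent.Lib.Helper18.Inv2F4
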