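/-
helper18: involutions of `²F₄(q)`: the fusion in the case B: `x₈(0;1) x₄(0;υ)`, `υ ≠ 0`, is conjugate to `x₁(1)`.
-/
import Cfsg.Agent.Lib.Helper18.Inv2F4.Fuse
import Cfsg.Agent.Lib.Helper18.Inv2F4.CaseA

set_option autoImplicit false

namespace Cfsg.Agent.Lib.Helper18.Inv2F4

open Cfsg.Lie Cfsg.Agent.Lib.Helper18 Cfsg.Agent.Lib.Helper18.F4T Cfsg.Agent.Lib.Helper91.ReeF4 Cfsg.Agent.Lib.Helper91.SigAbs
open Cfsg.Agent.Lib.Helper91.ExcAut Cfsg.Agent.Lib.Helper61.ReeF4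

universe u

theorem cartan_tab4 :
    (chevF4.cartan 0 28 = -1 ∧ chevF4.cartan 1 28 = 0 ∧ chevF4.cartan 2 28 = 1 ∧ chevF4.cartan 3 28 = -1) ∧
    (chevF4.cartan 0 30 = -2 ∧ chevF4.cartan 1 30 = 2 ∧ chevF4.cartan 2 30 = 0 ∧ chevF4.cartan 3 30 = -1) ∧
    (chevF4.cartan 0 44 = 1 ∧ chevF4.cartan 1 44 = 0 ∧ chevF4.cartan 2 44 = 0 ∧ chevF4.cartan 3 44 = 0) ∧
    (chevF4.cartan 0 47 = 0 ∧ chevF4.cartan 1 47 = 0 ∧ chevF4.cartan 2 47 = 0 ∧ chevF4.cartan 3 47 = 1) := by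
  decide

section FuseB

variable (K : Type u) [Field K] [Fintype K] [CharP K 2] (m : ℕ) (hq : ∀ t : K, t ^ (2 * 2 ^ m * 2 ^ m) = t)

include hq in
/-- The torus element fixing `x₈(0;1)` and normalising `x₄(0;υ)`. -/
theorem exists_torusB (υ : K) (hυ : υ ≠ 0) : ∃ h ∈ twistedF4 K (2 ^ m),
    h * X8 K m 0 1 * h⁻¹ = X8 K m 0 1 ∧ h * X4 K m 0 υ * h⁻¹ = X4 K m 0 1 := by
  let d : Kˣ := ((Units.mk0 υ hυ)⁻¹) ^ (2 * 2 ^ m)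
  let c : Kˣ := d ^ (2 ^ m + 1)
  have hdv : (d : K) = (υ⁻¹) ^ (2 * 2 ^ m) := by
    show ((((Units.mk0 υ hυ)⁻¹) ^ (2 * 2 ^ m) : Kˣ) : K) = _
    rw [Units.val_pow_eq_pow_val, Units.val_inv_eq_inv_val, Units.val_mk0]
  have hcv : (c : K) = (d : K) ^ (2 ^ m + 1) := by
    show ((d ^ (2 ^ m + 1) : Kˣ) : K) = _
    rw [Units.val_pow_eq_pow_val]
  have hd0 : (d : K) ≠ 0 := d.ne_zero
  have hdθ : (d : K) ^ 2 ^ m = υ⁻¹ := by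
    rw [hdv, ← pow_mul]
    have : 2 * 2 ^ m * 2 ^ m = 2 * 2 ^ m * 2 ^ m := rfl
    exact hq _
  refine ⟨f4H (2 ^ m) c d, f4H_mem_twisted K m hq c d, ?_, ?_⟩
  · obtain ⟨⟨a1, a2, a3, a4⟩, ⟨b1, b2, b3, b4⟩, -, -⟩ := cartan_tab4
    rw [X8, qW_zero_left, one_pow]
    unfold f4H
    rw [conj_mul, tor4_conj_xG _ _ _ _ 28 (by norm_num), tor4_conj_xG _ _ _ _ 30 (by norm_num),
      a1, a2, a3, a4, b1, b2, b3, b4]
    have e1 : ((d ^ 2 ^ m : Kˣ) : K) ^ (-1 : ℤ) * ((c ^ 2 ^ m : Kˣ) : K) ^ (0 : ℤ) * (c : K) ^ (1 : ℤ)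
        * (d : K) ^ (-1 : ℤ) * 1 = 1 := by
      simp only [Units.val_pow_eq_pow_val, zpow_neg, zpow_one, zpow_zero, mul_one]
      rw [hcv, pow_succ]
      field_simp
    have e2 : ((d ^ 2 ^ m : Kˣ) : K) ^ (-2 : ℤ) * ((c ^ 2 ^ m : Kˣ) : K) ^ (2 : ℤ) * (c : K) ^ (0 : ℤ)
        * (d : K) ^ (-1 : ℤ) * 1 = 1 := by
      simp only [Units.val_pow_eq_pow_val, zpow_neg, zpow_zero, mul_one]
      have h2 : (((c : K) ^ 2 ^ m) ^ (2 : ℤ)) = (d : K) * ((d : K) ^ 2 ^ m) ^ (2 : ℤ) := by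
        rw [hcv]
        have : ((2 : ℤ)) = ((2 : ℕ) : ℤ) := rfl
        rw [this, zpow_natCast, zpow_natCast, ← pow_mul, ← pow_mul, ← pow_mul]
        have e : (2 ^ m + 1) * (2 ^ m * 2) = 2 * 2 ^ m * 2 ^ m + 2 ^ m * 2 := by ring
        rw [e, pow_add, hq]
      rw [h2]
      have hne : ((d : K) ^ 2 ^ m) ^ (2 : ℤ) ≠ 0 := zpow_ne_zero _ (pow_ne_zero _ hd0)
      field_simp
    rw [e1, e2]
  · obtain ⟨-, -, ⟨a1, a2, a3, a4⟩, ⟨b1, b2, b3, b4⟩⟩ := cartan_tab4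
    rw [X4, X4, qW_zero_left, qW_zero_left, one_pow]
    unfold f4H
    rw [conj_mul, tor4_conj_xG _ _ _ _ 44 (by norm_num), tor4_conj_xG _ _ _ _ 47 (by norm_num),
      a1, a2, a3, a4, b1, b2, b3, b4]
    have e1 : ((d ^ 2 ^ m : Kˣ) : K) ^ (1 : ℤ) * ((c ^ 2 ^ m : Kˣ) : K) ^ (0 : ℤ) * (c : K) ^ (0 : ℤ)
        * (d : K) ^ (0 : ℤ) * υ = 1 := by
      simp only [Units.val_pow_eq_pow_val, zpow_one, zpow_zero, mul_one]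
      rw [hdθ]
      exact inv_mul_cancel₀ hυ
    have e2 : ((d ^ 2 ^ m : Kˣ) : K) ^ (0 : ℤ) * ((c ^ 2 ^ m : Kˣ) : K) ^ (0 : ℤ) * (c : K) ^ (0 : ℤ)
        * (d : K) ^ (1 : ℤ) * υ ^ (2 * 2 ^ m) = 1 := by
      simp only [zpow_one, zpow_zero, one_mul]
      rw [hdv, ← mul_pow, inv_mul_cancel₀ hυ, one_pow]
    rw [e1, e2]

include hq in
/-- The fusion in the case B. -/
theorem fuseB (υ : K) (hυ : υ ≠ 0) :
    ∃ g ∈ twistedF4 K (2 ^ m), g * (X8 K m 0 1 * X4 K m 0 υ) * g⁻¹ = X1 K m 1 := by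
  obtain ⟨h, hhG, hh8, hh4⟩ := exists_torusB K m hq υ hυ
  have hX1G : X1 K m 1 ∈ twistedF4 K (2 ^ m) := pW_mem m 33 24 (by decide) 1
  have hY1G : Y1 K m 1 ∈ twistedF4 K (2 ^ m) := pW_mem m 14 23 (by decide) 1
  have hX8G : X8 K m 0 1 ∈ twistedF4 K (2 ^ m) := qW_mem m 27 25 28 30 (by decide) 0 1
  have hY8G : Y8 K m 0 1 ∈ twistedF4 K (2 ^ m) := qW_mem m 20 22 19 17 (by decide) 0 1
  set g0 := X1 K m 1 * Y1 K m 1 * Y8 K m 0 1 * X8 K m 0 1 with hg0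
  have hg0G : g0 ∈ twistedF4 K (2 ^ m) := mul_mem (mul_mem (mul_mem hX1G hY1G) hY8G) hX8G
  have hw3G : w3 K ∈ twistedF4 K (2 ^ m) := w3_mem m
  -- `x₄(0;1) x₈(0;1) = g₀ x₃(1) g₀⁻¹`
  have hX41 : X4 K m 0 1 = wordG hD4 [(44, (1 : K)), (47, 1)] := by
    rw [X4, qW_zero_left, one_pow]
    simp only [wordG_cons, wordG_nil, mul_one]
  have hX31 : X3 K m 1 = wordG hD4 [(38, (1 : K)), (43, 1)] := by
    unfold X3 pW f4PairWord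
    rw [one_pow]
  have hb7 : X4 K m 0 1 * X8 K m 0 1 * g0 = g0 * X3 K m 1 := by
    rw [hg0, hX41, X8_zero_one, X1_one, Y1_one, Y8_zero_one, hX31]
    exact b7_identity
  have h48 : X8 K m 0 1 * X4 K m 0 1 = X4 K m 0 1 * X8 K m 0 1 :=
    RG_comm c8 c4 tabB.2.2.2.2.2.2.2.2.2.2.1 _ _
      (qW_mem_RG m _ _ _ _ _ _ _ (by decide) (by decide) (by decide) (by decide))
      (qW_mem_RG m _ _ _ _ _ _ _ (by decide) (by decide) (by decide) (by decide))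
  refine ⟨(g0 * w3 K)⁻¹ * h, mul_mem (inv_mem (mul_mem hg0G hw3G)) hhG, ?_⟩
  have e1 : (g0 * w3 K)⁻¹ * h * (X8 K m 0 1 * X4 K m 0 υ) * ((g0 * w3 K)⁻¹ * h)⁻¹
      = (g0 * w3 K)⁻¹ * ((h * X8 K m 0 1 * h⁻¹) * (h * X4 K m 0 υ * h⁻¹)) * (g0 * w3 K) := by group
  rw [e1, hh8, hh4, h48]
  have e2 : X4 K m 0 1 * X8 K m 0 1 = g0 * X3 K m 1 * g0⁻¹ := by
    rw [← hb7]; group
  rw [e2, ← w3_conj_X1]
  group

end FuseB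

end Cfsg.Agent.Lib.Helper18.Inv2F4
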