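/-
helper18: involutions of `²F₄(q)`: Sylow's theorem (every involution is conjugate into `U`) and the walk along the
longest word (some conjugate in `U` is moved out of `U` by `n₁` or `n₈`).
-/
import Cfsg.Agent.Lib.Helper18.Inv2F4.Idents2
import Cfsg.Agent.Lib.Helper44.F4OutSyl

set_option autoImplicit false

namespace Cfsg.Agent.Lib.Helper18.Inv2F4

open Cfsg.Lie Cfsg.Agent.Lib.Helper18 Cfsg.Agent.Lib.Helper18.F4T Cfsg.Agent.Lib.Helper91.ReeF4 Cfsg.Agent.Lib.Helper91.SigAbs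
open Cfsg.Agent.Lib.Helper91.ExcAut Cfsg.Agent.Lib.Helper61.ReeF4 Cfsg.Agent.Lib.Helper91.F4Out

open scoped Pointwise

universe u

section Sylow

variable (K : Type u) [Field K] [Fintype K] [CharP K 2] (m : ℕ)

/-- Every element of `²F₄(q)` of square one is conjugate to an element of `U`. -/
theorem exists_conj_mem_U (hK : Fintype.card K = 2 ^ (2 * m + 1)) (x : GL chevF4.Idx K)
    (hx : x ∈ twistedF4 K (2 ^ m)) (hx2 : x * x = 1) :
    ∃ g ∈ twistedF4 K (2 ^ m), g * x * g⁻¹ ∈ chevF4.posUnipotent K := by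
  classical
  haveI : Fact (Nat.Prime 2) := ⟨Nat.prime_two⟩
  obtain ⟨hP1, hP2⟩ := Cfsg.Agent.Lib.Helper44.F4Out.sylow_F4 K m hK
  let P : Sylow 2 ↥(GF4 K m) := hP1.toSylow hP2
  let y : ↥(GF4 K m) := ⟨x, hx⟩
  have hy2 : y * y = 1 := Subtype.ext hx2
  have hz : IsPGroup 2 ↥(Subgroup.zpowers y) := by
    rintro ⟨z, hz⟩
    refine ⟨1, ?_⟩
    obtain ⟨n, rfl⟩ := Subgroup.mem_zpowers_iff.mp hz
    apply Subtype.ext
    show (y ^ n) ^ 2 ^ 1 = 1
    rw [pow_one, ← zpow_natCast, ← zpow_mul, mul_comm, zpow_mul, zpow_natCast, sq, hy2, one_zpow]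
  obtain ⟨Q, hQ⟩ := hz.exists_le_sylow
  obtain ⟨h, hh⟩ := MulAction.exists_smul_eq ↥(GF4 K m) Q P
  refine ⟨h.1, h.2, ?_⟩
  have hgQ : y ∈ (Q : Subgroup ↥(GF4 K m)) := hQ (Subgroup.mem_zpowers y)
  have h1 := Subgroup.smul_mem_pointwise_smul y (MulAut.conj h) (Q : Subgroup ↥(GF4 K m)) hgQ
  have h2 : (MulAut.conj h • (Q : Subgroup ↥(GF4 K m))) = ((h • Q : Sylow 2 ↥(GF4 K m)) : Subgroup ↥(GF4 K m)) := by
    rw [Sylow.smul_def]
    rfl
  rw [h2, hh] at h1
  have h3 : h * y * h⁻¹ ∈ UF4 K m := h1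
  exact (mem_UF4 K m _).mp h3

end Sylow

section Walk

variable (K : Type u) [Field K] [CharP K 2] (m : ℕ)

/-- The list of the positive roots. -/
def posRoots : List ℕ := List.range' 24 24

theorem posUnipotent_le_RG : chevF4.posUnipotent K ≤ RG K posRoots := by
  unfold ChevalleyDatum.posUnipotent
  rw [Subgroup.closure_le]
  rintro g ⟨r, t, hr, hg⟩
  have hg' : g = xG hD4 r t := Units.ext hg
  rw [hg']
  have h := (isPosRoot_iff hD4 r).mp hr
  apply xG_mem_RG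
  unfold posRoots
  rw [List.mem_range'_1]
  have : chevF4.nroots = 48 := rfl
  omega

set_option maxRecDepth 100000 in
theorem long_mapNeg : mapNeg (wordJ f4Long) posRoots = true := by decide +kernel

/-- A non-trivial element of `U` is moved out of `U` by `n₀`. -/
theorem n0_conj_not_mem (u : GL chevF4.Idx K) (hu : u ∈ chevF4.posUnipotent K) (hu1 : u ≠ 1) :
    f4n0 K * u * (f4n0 K)⁻¹ ∉ chevF4.posUnipotent K := by
  intro hmem
  have hΨ : ∀ r ∈ posRoots, r < 48 := by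
    intro r hr
    unfold posRoots at hr
    rw [List.mem_range'_1] at hr
    omega
  obtain ⟨h1, h2⟩ := nW_conj_neg (K := K) (wordJ f4Long) posRoots (wordJ_lt _) hΨ long_mapNeg u
    (posUnipotent_le_RG K hu)
  have h3 : f4n0 K * u * (f4n0 K)⁻¹ ∈ chevF4.posUnipotent K ⊓ chevF4.negUnipotent K := ⟨hmem, RG_le_neg h2 h1⟩
  rw [pos_inf_neg_F4] at h3
  have h4 := Subgroup.mem_bot.mp h3
  apply hu1
  have e : u = (f4n0 K)⁻¹ * (f4n0 K * u * (f4n0 K)⁻¹) * f4n0 K := by group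
  rw [e, h4]
  group

/-- The walk: a non-trivial element of `U ∩ ²F₄(q)` has a conjugate in `U` which `n₁` or `n₈` moves out of `U`. -/
theorem exists_walk (u : GL chevF4.Idx K) (hu : u ∈ chevF4.posUnipotent K) (hu1 : u ≠ 1) :
    ∃ g ∈ twistedF4 K (2 ^ m), g * u * g⁻¹ ∈ chevF4.posUnipotent K ∧
      (n1 K * (g * u * g⁻¹) * (n1 K)⁻¹ ∉ chevF4.posUnipotent K ∨
        n8 K * (g * u * g⁻¹) * (n8 K)⁻¹ ∉ chevF4.posUnipotent K) := by
  have he : (2 : ℕ) ^ m ≠ 0 := pow_ne_zero _ (by norm_num)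
  let ns : List (GL chevF4.Idx K) := [n8 K, n1 K, n8 K, n1 K, n8 K, n1 K, n8 K, n1 K]
  have hprod : ns.prod = f4n0 K := by
    show n8 K * (n1 K * (n8 K * (n1 K * (n8 K * (n1 K * (n8 K * (n1 K * 1))))))) = f4n0 K
    unfold f4n0 f4Long n1 n8
    simp only [wordJ_cons, nW_append, mul_one]
    have e0 : clsJ 0 = [0, 3] := rfl
    have e1 : clsJ 1 = [1, 2, 1, 2] := rfl
    have e2 : wordJ [] = [] := rfl
    rw [e0, e1, e2, nW_nil, mul_one]
  have hns : ∀ n ∈ ns, n ∈ twistedF4 K (2 ^ m) := by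
    intro n hn
    simp only [ns, List.mem_cons, List.not_mem_nil, or_false] at hn
    rcases hn with rfl | rfl | rfl | rfl | rfl | rfl | rfl | rfl
    all_goals first | exact nW_J2_mem K (2 ^ m) he | exact nW_J1_mem K (2 ^ m)
  have hlast : ns.prod * u * ns.prod⁻¹ ∉ chevF4.posUnipotent K := by
    rw [hprod]
    exact n0_conj_not_mem K u hu hu1
  obtain ⟨g, hg, n, hn, h1, h2⟩ := exists_step_not_mem (twistedF4 K (2 ^ m)) (chevF4.posUnipotent K) ns hns u hu hlast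
  refine ⟨g, hg, h1, ?_⟩
  simp only [ns, List.mem_cons, List.not_mem_nil, or_false] at hn
  rcases hn with rfl | rfl | rfl | rfl | rfl | rfl | rfl | rfl
  all_goals first | exact Or.inl h2 | exact Or.inr h2

end Walk

end Cfsg.Agent.Lib.Helper18.Inv2F4
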