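/-
helper18: involutions of `²F₄(q)`: every involution is conjugate to `z₀ = x₂₈(1) x₃₀(1)` or `t₀ = x₃₃(1) x₂₄(1)`; the
number of classes of involutions of `²F₄(q)` (given that `z₀` and `t₀` are not conjugate in the general linear group).
-/
import Cfsg.Agent.Lib.Helper18.Inv2F4.Walk
import Cfsg.Agent.Lib.Helper18.Inv2F4.CaseB
import Cfsg.Agent.Lib.Helper18.Inv2F4.FuseA
import Cfsg.Agent.Lib.Helper18.Inv2F4.FuseB

set_option autoImplicit false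

namespace Cfsg.Agent.Lib.Helper18.Inv2F4

open Cfsg.Lie Cfsg.Agent.Lib.Helper18 Cfsg.Agent.Lib.Helper18.F4T Cfsg.Agent.Lib.Helper91.ReeF4 Cfsg.Agent.Lib.Helper91.SigAbs
open Cfsg.Agent.Lib.Helper91.ExcAut Cfsg.Agent.Lib.Helper61.ReeF4

universe u

section Main

variable (K : Type u) [Field K] [Fintype K] (m : ℕ)

theorem X8_zero_one_eq [CharP K 2] : X8 K m 0 1 = xG hD4 28 1 * xG hD4 30 1 := by
  rw [X8, qW_zero_left, one_pow]

theorem X1_one_eq : X1 K m 1 = xG hD4 33 1 * xG hD4 24 1 := by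
  rw [X1_eq, pairW_eq, one_pow]

/-- Every involution of `²F₄(q)` is conjugate to `x₈(0;1)` or to `x₁(1)`. -/
theorem involution_conj' [CharP K 2] (hK : Fintype.card K = 2 ^ (2 * m + 1)) (x : GL chevF4.Idx K)
    (hx : x ∈ twistedF4 K (2 ^ m)) (hx2 : x * x = 1) (hx1 : x ≠ 1) :
    ∃ g ∈ twistedF4 K (2 ^ m), g * x * g⁻¹ = X8 K m 0 1 ∨ g * x * g⁻¹ = X1 K m 1 := by
  have hq := hq_of_card hK
  obtain ⟨g1, hg1, hu1⟩ := exists_conj_mem_U K m hK x hx hx2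
  have hu1G : g1 * x * g1⁻¹ ∈ twistedF4 K (2 ^ m) := mul_mem (mul_mem hg1 hx) (inv_mem hg1)
  have hu1ne : g1 * x * g1⁻¹ ≠ 1 := by
    intro h
    apply hx1
    have e : x = g1⁻¹ * (g1 * x * g1⁻¹) * g1 := by group
    rw [e, h]
    group
  obtain ⟨g2, hg2, hu2, hcase⟩ := exists_walk K m _ hu1 hu1ne
  have hu2G : g2 * (g1 * x * g1⁻¹) * g2⁻¹ ∈ twistedF4 K (2 ^ m) := mul_mem (mul_mem hg2 hu1G) (inv_mem hg2)
  have hu2sq : (g2 * (g1 * x * g1⁻¹) * g2⁻¹) * (g2 * (g1 * x * g1⁻¹) * g2⁻¹) = 1 :=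
    conj_sq_eq_one _ _ (conj_sq_eq_one _ _ hx2)
  rcases hcase with hA | hB
  · obtain ⟨g3, hg3, c, h3⟩ := caseA K m hq _ hu2 hu2G hu2sq hA
    obtain ⟨g4, hg4, h4⟩ := fuseA K m hq c
    refine ⟨g4⁻¹ * g3 * g2 * g1, mul_mem (mul_mem (mul_mem (inv_mem hg4) hg3) hg2) hg1, Or.inr ?_⟩
    have e : g4⁻¹ * g3 * g2 * g1 * x * (g4⁻¹ * g3 * g2 * g1)⁻¹
        = g4⁻¹ * (g3 * (g2 * (g1 * x * g1⁻¹) * g2⁻¹) * g3⁻¹) * g4 := by group
    rw [e, h3, ← h4]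
    group
  · obtain ⟨g3, hg3, υ, h3⟩ := caseB K m hq _ hu2 hu2G hu2sq hB
    by_cases hυ : υ = 0
    · refine ⟨g3 * g2 * g1, mul_mem (mul_mem hg3 hg2) hg1, Or.inl ?_⟩
      have e : g3 * g2 * g1 * x * (g3 * g2 * g1)⁻¹ = g3 * (g2 * (g1 * x * g1⁻¹) * g2⁻¹) * g3⁻¹ := by group
      rw [e, h3, hυ, X4, qW_zero, mul_one]
    · obtain ⟨g4, hg4, h4⟩ := fuseB K m hq υ hυ
      refine ⟨g4 * g3 * g2 * g1, mul_mem (mul_mem (mul_mem hg4 hg3) hg2) hg1, Or.inr ?_⟩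
      have e : g4 * g3 * g2 * g1 * x * (g4 * g3 * g2 * g1)⁻¹
          = g4 * (g3 * (g2 * (g1 * x * g1⁻¹) * g2⁻¹) * g3⁻¹) * g4⁻¹ := by group
      rw [e, h3, h4]

/-- Every involution of `²F₄(q)` is conjugate to `z₀ = x₂₈(1) x₃₀(1)` or to `t₀ = x₃₃(1) x₂₄(1)`. -/
theorem involution_conj [CharP K 2] (hK : Fintype.card K = 2 ^ (2 * m + 1)) (x : GL chevF4.Idx K)
    (hx : x ∈ twistedF4 K (2 ^ m)) (hx2 : x * x = 1) (hx1 : x ≠ 1) :
    ∃ g ∈ twistedF4 K (2 ^ m), g * x * g⁻¹ = xG hD4 28 1 * xG hD4 30 1 ∨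
      g * x * g⁻¹ = xG hD4 33 1 * xG hD4 24 1 := by
  obtain ⟨g, hg, h⟩ := involution_conj' K m hK x hx hx2 hx1
  rw [X8_zero_one_eq, X1_one_eq] at h
  exact ⟨g, hg, h⟩

/-- The number of classes of involutions of `²F₄(q)`, given that `z₀` and `t₀` are not conjugate. -/
theorem ncard_classes_of (hK : Fintype.card K = 2 ^ (2 * m + 1))
    (hrank : ∀ g : GL chevF4.Idx K, g * (xG hD4 28 1 * xG hD4 30 1) * g⁻¹ ≠ xG hD4 33 1 * xG hD4 24 1) :
    (ConjClasses.mk '' {g : ↥(twistedF4 K (2 ^ m)) | orderOf g = 2}).ncard = 2 := by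
  haveI := charP_two_of_card hK
  have hq := hq_of_card hK
  haveI : Fact (Nat.Prime 2) := ⟨Nat.prime_two⟩
  let z : ↥(twistedF4 K (2 ^ m)) := ⟨X8 K m 0 1, qW_mem m 27 25 28 30 (by decide) 0 1⟩
  let t : ↥(twistedF4 K (2 ^ m)) := ⟨X1 K m 1, pW_mem m 33 24 (by decide) 1⟩
  have hz : orderOf z = 2 := by
    apply orderOf_eq_prime
    · rw [sq]
      exact Subtype.ext (P_mul_self m hq)
    · intro h
      have h1 : X8 K m 0 1 = 1 := congrArg Subtype.val h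
      exact one_ne_zero (qW_zero_left_eq_one m 27 25 28 30 (by norm_num) (by norm_num) (by norm_num) _ h1)
  have ht : orderOf t = 2 := by
    apply orderOf_eq_prime
    · rw [sq]
      exact Subtype.ext (X1_mul_self m 1)
    · intro h
      have h1 : X1 K m 1 = 1 := congrArg Subtype.val h
      exact one_ne_zero (pW_eq_one m 33 24 (by norm_num) (by norm_num) (by norm_num) _ h1)
  apply ncard_involution_classes_eq_two z t hz ht
  · intro hc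
    obtain ⟨c, hc⟩ := isConj_iff.mp hc
    have h1 : (c : GL chevF4.Idx K) * X8 K m 0 1 * (c : GL chevF4.Idx K)⁻¹ = X1 K m 1 := congrArg Subtype.val hc
    rw [X8_zero_one_eq, X1_one_eq] at h1
    exact hrank _ h1
  · intro g hg
    have hg2 : g * g = 1 := by
      have := pow_orderOf_eq_one g
      rwa [hg, sq] at this
    have hg1 : g ≠ 1 := by
      intro h
      rw [h, orderOf_one] at hg
      norm_num at hg
    obtain ⟨c, hcG, hc⟩ := involution_conj' K m hK g.1 g.2 (congrArg Subtype.val hg2)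
      (fun h => hg1 (Subtype.ext h))
    rcases hc with hc | hc
    · exact Or.inl (isConj_iff.mpr ⟨⟨c, hcG⟩, Subtype.ext hc⟩)
    · exact Or.inr (isConj_iff.mpr ⟨⟨c, hcG⟩, Subtype.ext hc⟩)

end Main

end Cfsg.Agent.Lib.Helper18.Inv2F4
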